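import Mathlib
import Groth.Agent.Abvar.Seesaw.Core

/-!
Modules generated by finitely many elements after inverting one element, and bases of their duals.
-/

set_option autoImplicit false

universe u

open scoped TensorProduct

namespace Groth.PicFreeLocus

variable {R : Type u} [CommRing R] {Q : Type u} [AddCommGroup Q] [Module R Q] {n : ℕ}
variable {C : Type u} [CommRing C] [Algebra R C]

/-- After inverting `f`, the module is generated by the family `e`. -/
def GenBy (f : R) (e : Fin n → Q) : Prop := ∀ q : Q, ∃ a : Fin n → R, f • q = ∑ j, a j • e j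

/-- The ideal of coordinates of the relations between the members of a family. -/
def relIdeal (e : Fin n → Q) : Ideal R :=
  ⨆ j : Fin n, Submodule.map (LinearMap.proj j) (LinearMap.ker (Fintype.linearCombination R e))

theorem mem_relIdeal {e : Fin n → Q} {a : Fin n → R} (h : ∑ j, a j • e j = 0) (j : Fin n) :
    a j ∈ relIdeal e :=
  Submodule.mem_iSup_of_mem j ⟨a, by rw [SetLike.mem_coe, LinearMap.mem_ker, Fintype.linearCombination_apply]; exact h, rfl⟩

theorem relIdeal_le {e : Fin n → Q} {J : Ideal R}
    (h : ∀ a : Fin n → R, ∑ j, a j • e j = 0 → ∀ j, a j ∈ J) : relIdeal e ≤ J := by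
  refine iSup_le fun j => ?_
  rintro _ ⟨a, ha, rfl⟩
  rw [SetLike.mem_coe, LinearMap.mem_ker, Fintype.linearCombination_apply] at ha
  exact h a ha j

/-- The coordinate forms, when the relations die. -/
theorem exists_forms {f : R} {e : Fin n → Q} (hf : GenBy f e) (hu : IsUnit (algebraMap R C f))
    (hI : relIdeal e ≤ RingHom.ker (algebraMap R C)) :
    ∃ φ : Fin n → (Q →ₗ[R] C), (∀ i j, φ i (e j) = if i = j then 1 else 0) ∧
      ∀ ψ : Q →ₗ[R] C, ψ = ∑ i, LinearMap.mulLeft R (ψ (e i)) ∘ₗ φ i := by
  classical
  obtain ⟨v, hv⟩ := hu.exists_left_inv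
  choose a ha using hf
  have key : ∀ (r : Fin n → R) (q : Q), f • q = ∑ j, r j • e j → ∀ i,
      algebraMap R C (a q i) = algebraMap R C (r i) := fun r q h i => by
    rw [← sub_eq_zero, ← map_sub]
    refine RingHom.mem_ker.1 (hI (mem_relIdeal (a := fun j => a q j - r j) ?_ i))
    simp only [sub_smul, Finset.sum_sub_distrib]
    rw [← ha, h, sub_self]
  let φ : Fin n → (Q →ₗ[R] C) := fun i =>
    { toFun := fun q => algebraMap R C (a q i) * v
      map_add' := fun q q' => by
        rw [key (fun j => a q j + a q' j) (q + q')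
          (by simp only [add_smul, Finset.sum_add_distrib]; rw [← ha, ← ha, smul_add]), map_add, add_mul]
      map_smul' := fun r q => by
        rw [key (fun j => r * a q j) (r • q)
          (by simp only [mul_smul, ← Finset.smul_sum]; rw [← ha, smul_comm]), map_mul, RingHom.id_apply,
          Algebra.smul_def, mul_assoc] }
  refine ⟨φ, fun i j => ?_, fun ψ => LinearMap.ext fun q => ?_⟩
  · show algebraMap R C (a (e j) i) * v = _
    rw [key (fun l => if l = j then f else 0) (e j) (by simp [ite_smul]) i]
    split_ifs with h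
    · rw [mul_comm, hv]
    · rw [map_zero, zero_mul]
  · have h := congrArg ψ (ha q)
    simp only [map_sum, map_smul, Algebra.smul_def] at h
    rw [LinearMap.sum_apply]
    show ψ q = ∑ i, ψ (e i) * (algebraMap R C (a q i) * v)
    calc ψ q = v * (algebraMap R C f * ψ q) := by rw [← mul_assoc, hv, one_mul]
      _ = _ := by
        rw [h, Finset.mul_sum]
        exact Finset.sum_congr rfl fun i _ => by ring

/-- A free family of `n` forms kills the relations between `n` generators. -/
theorem relIdeal_le_ker {f : R} {e : Fin n → Q} (hf : GenBy f e) (hu : IsUnit (algebraMap R C f))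
    {φ : Fin n → (Q →ₗ[R] C)} (hφ : ∀ c : Fin n → C, ∑ i, LinearMap.mulLeft R (c i) ∘ₗ φ i = 0 → c = 0) :
    relIdeal e ≤ RingHom.ker (algebraMap R C) := by
  classical
  let M : Matrix (Fin n) (Fin n) C := Matrix.of fun i j => φ i (e j)
  have hrow : LinearIndependent C M.row := by
    rw [← Matrix.vecMul_injective_iff]
    intro c c' h
    refine sub_eq_zero.1 (hφ (c - c') (LinearMap.ext fun q => hu.mul_left_cancel ?_))
    obtain ⟨a, ha⟩ := hf q
    rw [LinearMap.zero_apply, mul_zero, ← Algebra.smul_def, ← map_smul, ha, map_sum]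
    refine Finset.sum_eq_zero fun j _ => ?_
    have hz : (Matrix.vecMul (c - c') M) j = 0 := by
      rw [Matrix.sub_vecMul, Pi.sub_apply]
      exact sub_eq_zero.2 (congrFun h j)
    rw [map_smul, LinearMap.sum_apply]
    refine Eq.trans (congrArg (a j • ·) ?_) (smul_zero _)
    exact hz
  have hcol := (Matrix.Nonsingular.of_linearIndependent_row hrow).linearIndependent_col
  rw [← Matrix.mulVec_injective_iff] at hcol
  refine relIdeal_le fun a ha j => RingHom.mem_ker.2 ?_
  have h0 : Matrix.mulVec M (fun j => algebraMap R C (a j)) = Matrix.mulVec M 0 := by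
    rw [Matrix.mulVec_zero]
    funext i
    have h := congrArg (φ i) ha
    simp only [map_sum, map_smul, Algebra.smul_def, map_zero] at h
    rw [Pi.zero_apply, ← h]
    show ∑ j, M i j * algebraMap R C (a j) = _
    exact Finset.sum_congr rfl fun j _ => mul_comm (M i j) (algebraMap R C (a j))
  exact congrFun (hcol h0) j

/-- A finite module whose dual at a prime has a basis of `n` forms is generated by `n` elements near it. -/
theorem exists_genBy_near [Module.Finite R Q] (x : PrimeSpectrum R) {K : Type u} [Field K] [Algebra R K]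
    (hK : RingHom.ker (algebraMap R K) = x.asIdeal) {φ : Fin n → (Q →ₗ[R] K)}
    (hφ : ∀ c : Fin n → K, ∑ i, LinearMap.mulLeft R (c i) ∘ₗ φ i = 0 → c = 0)
    (hall : ∀ ψ : Q →ₗ[R] K, ∃ c : Fin n → K, ψ = ∑ i, LinearMap.mulLeft R (c i) ∘ₗ φ i) :
    ∃ (e : Fin n → Q) (f : R), f ∉ x.asIdeal ∧ GenBy f e := by
  classical
  let B : (Fin n → K) →ₗ[K] Module.Dual K (K ⊗[R] Q) :=
    Fintype.linearCombination K fun i => LinearMap.liftBaseChangeEquiv K (φ i)
  have hB : ∀ c, B c = LinearMap.liftBaseChangeEquiv K (∑ i, LinearMap.mulLeft R (c i) ∘ₗ φ i) := fun c => by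
    rw [map_sum, Fintype.linearCombination_apply]
    refine Finset.sum_congr rfl fun i _ => ?_
    rw [← map_smul]
    rfl
  have hBb : Function.Bijective B := by
    refine ⟨(injective_iff_map_eq_zero _).2 fun c hc => hφ c ?_, fun ξ => ?_⟩
    · rw [hB, LinearEquiv.map_eq_zero_iff] at hc
      exact hc
    · obtain ⟨c, hc⟩ := hall ((LinearMap.liftBaseChangeEquiv K).symm ξ)
      exact ⟨c, by rw [hB, ← hc, LinearEquiv.apply_symm_apply]⟩
  have : Module.Finite K (Module.Dual K (K ⊗[R] Q)) := inferInstance
  have hrk : Module.finrank K (K ⊗[R] Q) = n := by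
    rw [← Subspace.dual_finrank_eq, ← (LinearEquiv.ofBijective B hBb).finrank_eq, Module.finrank_fin_fun]
  have hsp : Submodule.span K (Set.range fun q : Q => (1 : K) ⊗ₜ[R] q) = ⊤ := by
    rw [eq_top_iff]
    rintro z -
    induction z using TensorProduct.induction_on with
    | zero => exact Submodule.zero_mem _
    | add p q hp hq => exact Submodule.add_mem _ hp hq
    | tmul b q =>
      have := Submodule.smul_mem _ b (Submodule.subset_span (R := K) (s := Set.range fun q : Q => (1 : K) ⊗ₜ[R] q) ⟨q, rfl⟩)
      rwa [TensorProduct.smul_tmul', smul_eq_mul, mul_one] at this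
  obtain ⟨w, hw, hwli⟩ : ∃ e : Fin n → Q, Submodule.span K (Set.range fun i => (1 : K) ⊗ₜ[R] e i) = ⊤ ∧ True := by
    obtain ⟨b, hbs, hbsp, hbli⟩ := exists_linearIndependent K (Set.range fun q : Q => (1 : K) ⊗ₜ[R] q)
    have : Finite b := hbli.finite
    have hb : Fintype b := Fintype.ofFinite b
    let bb := Module.Basis.mk hbli (by rw [Subtype.range_coe, hbsp, hsp])
    have hcard : Fintype.card b = n := by rw [← hrk, Module.finrank_eq_card_basis bb]
    let σ : Fin n ≃ b := (Fintype.equivFinOfCardEq hcard).symm
    choose e he using fun i => hbs (σ i).2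
    refine ⟨e, ?_, trivial⟩
    rw [show (fun i => (1 : K) ⊗ₜ[R] e i) = fun i => (σ i : K ⊗[R] Q) from funext he,
      show Set.range (fun i => (σ i : K ⊗[R] Q)) = b from by
        rw [show (fun i => (σ i : K ⊗[R] Q)) = Subtype.val ∘ σ from rfl, σ.surjective.range_comp, Subtype.range_coe],
      hbsp, hsp]
  let N := Q ⧸ Submodule.span R (Set.range w)
  have hs : x ∉ Module.support R N := fun h => by
    refine (Groth.Abvar.Seesaw.mem_support_iff_finrank x K hK).1 h ?_
    have hsurj : Function.Surjective ((Submodule.span R (Set.range w)).mkQ.baseChange K) :=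
      LinearMap.lTensor_surjective K (Submodule.mkQ_surjective _)
    have hz : (Submodule.span R (Set.range w)).mkQ.baseChange K = 0 := by
      refine LinearMap.ext_on hw ?_
      rintro _ ⟨i, rfl⟩
      rw [LinearMap.baseChange_tmul, LinearMap.zero_apply, Submodule.mkQ_apply,
        (Submodule.Quotient.mk_eq_zero _).2 (Submodule.subset_span (Set.mem_range_self i)), TensorProduct.tmul_zero]
    have : Subsingleton (K ⊗[R] N) := subsingleton_of_forall_eq 0 fun y => by
      obtain ⟨z, rfl⟩ := hsurj y
      rw [hz, LinearMap.zero_apply]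
    exact Module.finrank_zero_of_subsingleton
  rw [Module.support_eq_zeroLocus, PrimeSpectrum.mem_zeroLocus, Set.not_subset] at hs
  obtain ⟨f, hf, hfx⟩ := hs
  refine ⟨w, f, hfx, fun q => ?_⟩
  have h : f • (Submodule.Quotient.mk q : N) = 0 := Module.mem_annihilator.1 hf _
  rw [← Submodule.Quotient.mk_smul, Submodule.Quotient.mk_eq_zero, Submodule.mem_span_range_iff_exists_fun] at h
  exact ⟨h.choose, h.choose_spec.symm⟩

end Groth.PicFreeLocus
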