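import Mathlib
import Groth.Agent.CohBase.IsoNearFibre
import Groth.Agent.PicAux.PushPull
import Groth.Agent.KTheory.LocFree
import Groth.Agent.LocFree.Basic

/-!
Bases of a module over preimages of opens of the base.
-/

set_option autoImplicit false

universe u

open CategoryTheory CategoryTheory.Limits AlgebraicGeometry TopologicalSpace Opposite
open Groth.PicAux (res res_res res_self res_smul res_sum pullSec pullSec_smul pushSec unpush Basis'
  app_res exists_basis_of_isFinLocFree counit_pullSec isIso_of_cover Gen)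

namespace Groth.PicFreeLocus

variable {X Y T : Scheme.{u}}

/-- Every point of the base has a neighbourhood with a basis over its preimage. -/
def HasPushBasis (q : X ⟶ T) (F : X.Modules) : Prop :=
  ∀ t : T, ∃ (W : T.Opens) (n : ℕ) (s : Fin n → Γ(F, q ⁻¹ᵁ W)), t ∈ W ∧ Basis' F (q ⁻¹ᵁ W) s

theorem basis'_congr {n : ℕ} {M : X.Modules} {U V : X.Opens} (h : V ≤ U) (h' : U ≤ V)
    {s : Fin n → Γ(M, U)} (hs : Basis' M U s) : Basis' M V fun i => res M h (s i) :=
  hs.res' h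

theorem exists_basis_congr {n : ℕ} {M N : X.Modules} (e : M ≅ N) {U : X.Opens} {s : Fin n → Γ(M, U)}
    (hs : Basis' M U s) : ∃ s' : Fin n → Γ(N, U), Basis' N U s' :=
  ⟨_, hs.map e.hom⟩

theorem HasPushBasis.of_iso {q : X ⟶ T} {M N : X.Modules} (e : M ≅ N) (h : HasPushBasis q M) :
    HasPushBasis q N := fun t => by
  obtain ⟨W, n, s, ht, hs⟩ := h t
  exact ⟨W, n, _, ht, hs.map e.hom⟩

theorem HasPushBasis.pull {X' T' : Scheme.{u}} {q : X ⟶ T} {M : X.Modules} (h : HasPushBasis q M)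
    {q' : X' ⟶ T'} {g : X' ⟶ X} {f : T' ⟶ T} (w : g ≫ q = q' ≫ f) :
    HasPushBasis q' ((Scheme.Modules.pullback g).obj M) := fun t => by
  obtain ⟨W, n, s, ht, hs⟩ := h (f t)
  have hle : q' ⁻¹ᵁ (f ⁻¹ᵁ W) ≤ g ⁻¹ᵁ (q ⁻¹ᵁ W) := by
    rw [← Scheme.Hom.comp_preimage, ← Scheme.Hom.comp_preimage, w]
  exact ⟨f ⁻¹ᵁ W, n, _, ht, (hs.pull g).res' hle⟩

theorem HasPushBasis.of_cover {q : X ⟶ T} {M : X.Modules} (𝒰 : Scheme.OpenCover.{u} T)
    (h : ∀ i, ∃ (X' : Scheme.{u}) (g : X' ⟶ X) (q' : X' ⟶ 𝒰.X i), IsPullback g q' q (𝒰.f i) ∧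
      HasPushBasis q' ((Scheme.Modules.pullback g).obj M)) : HasPushBasis q M := fun t => by
  obtain ⟨i, w, rfl⟩ := 𝒰.exists_eq t
  obtain ⟨X', g, q', sq, hb⟩ := h i
  have : IsOpenImmersion g := MorphismProperty.of_isPullback sq.flip inferInstance
  obtain ⟨W, n, s, hw, hs⟩ := hb w
  let e := (Scheme.Modules.restrictFunctorIsoPullback g).app M
  have hs' := hs.map e.inv
  have him : g ''ᵁ (q' ⁻¹ᵁ W) = q ⁻¹ᵁ (𝒰.f i ''ᵁ W) := by
    refine Opens.ext (Set.ext fun z => ⟨?_, ?_⟩)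
    · rintro ⟨v, hv, rfl⟩
      exact ⟨q' v, hv, (congr($(sq.w) v)).symm⟩
    · rintro ⟨v, hv, hvz⟩
      obtain ⟨z', h1, h2⟩ := Scheme.exists_preimage_of_isPullback sq z v hvz.symm
      exact ⟨z', show q' z' ∈ W by rw [h2]; exact hv, h1⟩
  refine ⟨𝒰.f i ''ᵁ W, n, fun j => res M him.ge (show Γ(M, g ''ᵁ (q' ⁻¹ᵁ W)) from e.inv.app _ (s j)),
    ⟨w, hw, rfl⟩, Basis'.res' ?_ him.ge⟩
  intro V hV
  have hb2 := hs' (g ⁻¹ᵁ V) (fun z hz => by
    obtain ⟨v, hv, hvz⟩ := hV (show g z ∈ V from hz)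
    exact g.isOpenEmbedding.injective hvz ▸ hv)
  have hVr : g ''ᵁ (g ⁻¹ᵁ V) = V := by
    rw [g.image_preimage_eq_opensRange_inf, inf_eq_right]
    intro z hz
    obtain ⟨v, -, hvz⟩ := hV hz
    exact ⟨v, hvz⟩
  have key : ∀ (V' : X.Opens) (h1 : g ''ᵁ (g ⁻¹ᵁ V) = V') (h2 : V' ≤ g ''ᵁ (q' ⁻¹ᵁ W)),
      Function.Bijective fun r : Fin n → Γ(X, V') =>
        ∑ j, r j • res M h2 (show Γ(M, g ''ᵁ (q' ⁻¹ᵁ W)) from e.inv.app _ (s j)) := by
    intro V' h1 h2
    subst h1
    exact (Function.Bijective.of_comp_iff _ (Function.Bijective.piMap fun _ : Fin n =>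
      ConcreteCategory.bijective_of_isIso (g.appIso (g ⁻¹ᵁ V)).inv)).1 hb2
  exact key V hVr hV

theorem basis'_pushSec {q : X ⟶ T} (hq : ∀ U : T.Opens, Function.Bijective (q.app U)) {n : ℕ}
    {F : X.Modules} {W : T.Opens} {s : Fin n → Γ(F, q ⁻¹ᵁ W)} (hs : Basis' F (q ⁻¹ᵁ W) s) :
    Basis' ((Scheme.Modules.pushforward q).obj F) W fun i => pushSec q F (s i) := by
  intro V hV
  exact (hs _ (q.preimage_mono hV)).comp (Function.Bijective.piMap fun _ : Fin n => hq V)

/-- With constant functions, local bases over the base are the same as being pulled back from the base. -/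
theorem hasPushBasis_iff {q : X ⟶ T} (hq : ∀ U : T.Opens, Function.Bijective (q.app U)) (F : X.Modules) :
    HasPushBasis q F ↔
      ∃ M : T.Modules, FlatMod.IsFinLocFree M ∧ Nonempty (F ≅ (Scheme.Modules.pullback q).obj M) := by
  constructor
  · intro h
    choose W n s ht hs using h
    let M := (Scheme.Modules.pushforward q).obj F
    have hM : FlatMod.IsFinLocFree M :=
      Groth.KTheory.LocFree.isFinLocFree_iff.2 fun t => ⟨W t, n t, _, ht t, basis'_pushSec hq (hs t)⟩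
    have : IsIso ((Scheme.Modules.pullbackPushforwardAdjunction q).counit.app F) := by
      refine Groth.SpecFerrand.isIso_of_bases _ fun x => ⟨q ⁻¹ᵁ W (q x), n (q x), _, ht (q x),
        (basis'_pushSec hq (hs (q x))).pull q, ?_⟩
      have e : (fun k => ((Scheme.Modules.pullbackPushforwardAdjunction q).counit.app F).app (q ⁻¹ᵁ W (q x))
          (pullSec q M (pushSec q F (s (q x) k)))) = s (q x) := funext fun k => counit_pullSec q F _
      exact e.symm ▸ hs (q x)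
    exact ⟨M, hM, ⟨(asIso ((Scheme.Modules.pullbackPushforwardAdjunction q).counit.app F)).symm⟩⟩
  · rintro ⟨M, hM, ⟨e⟩⟩ t
    obtain ⟨W, n, s, ht, hs⟩ := exists_basis_of_isFinLocFree hM t
    exact ⟨W, n, _, ht, (hs.pull q).map e.inv⟩

/-- Sections which form a basis after pulling back form a basis near each image point. -/
theorem exists_basis_of_pull (g : Y ⟶ X) {E : X.Modules} (hE : FlatMod.IsFinLocFree E) {n : ℕ}
    {U : X.Opens} (s : Fin n → Γ(E, U))
    (h : Basis' ((Scheme.Modules.pullback g).obj E) (g ⁻¹ᵁ U) fun i => pullSec g E (s i))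
    (z : Y) (hz : g z ∈ U) :
    ∃ (B : X.Opens) (hB : B ≤ U), g z ∈ B ∧ Basis' E B fun i => res E hB (s i) := by
  obtain ⟨O₀, m, t₀, hzO, ht₀⟩ := exists_basis_of_isFinLocFree hE (g z)
  let O := O₀ ⊓ U
  have hzO' : g z ∈ O := ⟨hzO, hz⟩
  have ht := ht₀.res' (inf_le_left : O ≤ O₀)
  set t := fun i => res E (inf_le_left : O ≤ O₀) (t₀ i)
  have h1 := h.res' (g.preimage_mono (inf_le_right : O ≤ U))
  have h2 := ht.pull g
  obtain rfl : n = m := Groth.CohBase.rank_eq_of_basis' (x := z) hzO' h1 h2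
  have hA : ∀ k, ∃ r : Fin n → Γ(X, O), ∑ l, r l • t l = res E inf_le_right (s k) := fun k => by
    obtain ⟨r, hr⟩ := (ht O le_rfl).2 (res E inf_le_right (s k))
    simp only [res_self] at hr
    exact ⟨r, hr⟩
  choose A hA using hA
  have hA' : ∀ k, res _ (g.preimage_mono (inf_le_right : O ≤ U)) (pullSec g E (s k)) =
      ∑ l, ((Matrix.of A).map (g.app O)) k l • pullSec g E (t l) := by
    intro k
    rw [Groth.PicAux.res_pullSec (f := g) E inf_le_right (s k), ← hA k]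
    refine (map_sum (((Scheme.Modules.pullbackPushforwardAdjunction g).unit.app E).app O).hom _ _).trans ?_
    exact Finset.sum_congr rfl fun l _ => pullSec_smul g E (A k l) (t l)
  have b₁ := h1 (g ⁻¹ᵁ O) le_rfl
  have b₂ := h2 (g ⁻¹ᵁ O) le_rfl
  simp only [res_self] at b₁ b₂
  have hdet : IsUnit ((Matrix.of A).map (g.app O)).det := SpecFerrand.det_isUnit_of_bases _ hA' b₂ b₁
  have hgerm : IsUnit (X.presheaf.germ O (g z) hzO' (Matrix.of A).det) := by
    refine isUnit_of_map_unit (g.stalkMap z).hom _ ?_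
    rw [Scheme.Hom.germ_stalkMap_apply]
    have := hdet.map (Y.presheaf.germ (g ⁻¹ᵁ O) z hzO').hom
    rwa [← RingHom.mapMatrix_apply, ← RingHom.map_det] at this
  refine ⟨X.basicOpen (Matrix.of A).det, (X.basicOpen_le _).trans inf_le_right,
    (X.mem_basicOpen _ _ hzO').2 hgerm, ?_⟩
  have hd := SpecFerrand.basis_det (t := fun k => res E inf_le_right (s k)) ht (Matrix.of A)
    fun k => (hA k).symm
  simpa only [res_res] using hd

/-- A basis on the fibre spreads to the preimage of a neighbourhood. -/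
theorem exists_basis_nhd (π : X ⟶ T) [UniversallyClosed π] {E : X.Modules} (hE : FlatMod.IsFinLocFree E)
    {n : ℕ} (s : Fin n → Γ(E, ⊤)) (y : T)
    (h : Basis' ((Scheme.Modules.pullback (π.fiberι y)).obj E) ⊤ fun i => pullSec (π.fiberι y) E (s i)) :
    ∃ V : T.Opens, y ∈ V ∧ Basis' E (π ⁻¹ᵁ V) fun i => res E le_top (s i) := by
  let P : X → Prop := fun x => ∃ B : X.Opens, x ∈ B ∧ Basis' E B fun i => res E le_top (s i)
  have hopen : IsOpen {x | P x} := isOpen_iff_forall_mem_open.2 fun x ⟨B, hx, hb⟩ =>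
    ⟨B, fun x' hx' => ⟨B, hx', hb⟩, B.2, hx⟩
  refine ⟨⟨(π '' {x | P x}ᶜ)ᶜ, (π.isClosedMap _ hopen.isClosed_compl).isOpen_compl⟩, ?_, ?_⟩
  · rintro ⟨x, hx, hxy⟩
    obtain ⟨z, rfl⟩ : ∃ z, π.fiberι y z = x := by
      change x ∈ Set.range (π.fiberι y)
      rw [π.range_fiberι]
      exact hxy
    obtain ⟨B, hB, hzB, hb⟩ := exists_basis_of_pull (π.fiberι y) hE s h z trivial
    exact hx ⟨B, hzB, hb⟩
  · refine Groth.KTheory.LocFree.basis'_of_local _ fun V hV x hx => ?_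
    obtain ⟨B, hxB, hb⟩ : P x := not_not.1 fun h' => hV hx ⟨x, h', rfl⟩
    refine ⟨B ⊓ V, inf_le_right, inf_le_right.trans hV, ⟨hxB, hx⟩, ?_⟩
    simpa only [res_res] using hb (B ⊓ V) inf_le_left

/-- Bases descend along surjective morphisms. -/
theorem basis'_of_surjective (g : Y ⟶ X) [Surjective g] {E : X.Modules} (hE : FlatMod.IsFinLocFree E)
    {n : ℕ} (s : Fin n → Γ(E, ⊤))
    (h : Basis' ((Scheme.Modules.pullback g).obj E) ⊤ fun i => pullSec g E (s i)) : Basis' E ⊤ s := by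
  refine Groth.KTheory.LocFree.basis'_of_local _ fun V hV x hx => ?_
  obtain ⟨z, rfl⟩ := g.surjective x
  obtain ⟨B, hB, hzB, hb⟩ := exists_basis_of_pull g hE s h z trivial
  refine ⟨B ⊓ V, inf_le_right, le_top, ⟨hzB, hx⟩, ?_⟩
  simpa only [res_res] using hb (B ⊓ V) inf_le_left

end Groth.PicFreeLocus
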