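import Mathlib
import Groth.Agent.PicAux.BaseChangeModel

/-!
The corepresentation of global sections of base changes is additive.
-/

set_option autoImplicit false

universe u

open CategoryTheory CategoryTheory.Limits AlgebraicGeometry TopologicalSpace Opposite
open scoped TensorProduct
open Groth.QCohMod (resFun resFun_resFun res_app)
open Groth.CohBase Groth.PicAux Groth.PicAux.BC

noncomputable section

namespace Groth.PicFreeLocus

variable (A : Type u) [CommRing A] {X : Scheme.{u}} [X.Over (Spec (CommRingCat.of A))]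

/-- Global sections of all base changes are corepresented by a finite module, additively. -/
theorem exists_rep_additive [IsNoetherianRing A] [IsProper (X ↘ Spec (CommRingCat.of A))] {F : X.Modules}
    (hF : Coh.IsCoh F) (hfl : FlatMod.IsFlatOver (X ↘ Spec (CommRingCat.of A)) F) :
    ∃ (Q : ModuleCat.{u} A) (_ : Module.Finite A Q) (θ₀ : (Q →ₗ[A] A) → Γ(F, ⊤)),
      Function.Bijective θ₀ ∧
      (∀ (a : A) (φ : Q →ₗ[A] A), θ₀ (LinearMap.mulLeft A a ∘ₗ φ) = toSec A (⊤ : X.Opens) a • θ₀ φ) ∧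
      ∀ (B : Type u) [CommRing B] [Algebra A B] (X' : Scheme.{u}) (g : X' ⟶ X)
        (f' : X' ⟶ Spec (CommRingCat.of B))
        (_ : IsPullback g f' (X ↘ Spec (CommRingCat.of A))
          (Spec.map (CommRingCat.ofHom (algebraMap A B)))),
        ∃ θ : (Q →ₗ[A] B) → Γ((Scheme.Modules.pullback g).obj F, g ⁻¹ᵁ ⊤),
          Function.Bijective θ ∧
          (∀ φ ψ : Q →ₗ[A] B, θ (φ + ψ) = θ φ + θ ψ) ∧
          (∀ (b : B) (φ : Q →ₗ[A] B), θ (LinearMap.mulLeft A b ∘ₗ φ) =
            bSec B (f' := f') (g ⁻¹ᵁ ⊤) b • θ φ) ∧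
          ∀ φ : Q →ₗ[A] A, θ (Algebra.linearMap A B ∘ₗ φ) = pullSec g F (θ₀ φ) := by
  have := CohFin.compactSpace_of_proper (X ↘ Spec (CommRingCat.of A))
  have := CohFin.isSeparated_of_proper (X ↘ Spec (CommRingCat.of A))
  have := hF.1
  obtain ⟨G⟩ := exists_goodCover X
  obtain ⟨L, ψ, hL, -, hq⟩ := exists_finiteFree_qis A G F hfl fun p =>
    CohFin.hFin_of_proper CohFin.projFinite p X (X ↘ Spec (CommRingCat.of A)) F hF
  have : ∀ i, Module.Finite A (L.X i) := fun i => (hL i).1
  have : ∀ i, Module.Flat A (L.X i) := fun i => have := (hL i).2; inferInstance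
  have hneg : ∀ M : ModuleCat.{u} A, IsZero (CohIII.T L (-1) M) := fun M => by
    refine IsZero.of_iso ?_ ((tFunIso ψ (-1) hq).app M)
    refine (FlatCxBase.isZero_T_iff _ (FlatCxBase.cochain_prev (-1))
      (FlatCxBase.cochain_next (-1)) M).2 fun x _ => ⟨0, ?_⟩
    have := ModuleCat.subsingleton_of_isZero
      (isZero_cxA_of_neg A G.U F (i := (-1 : ℤ)) (by norm_num))
    exact Subsingleton.elim _ _
  obtain ⟨Q, hQ, ⟨c⟩⟩ := CxExch.exists_corep L (-1) (CxExch.preservesEpi_of_isZero L (-1) hneg)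
  let e : CohIII.TFun (cxA A G.U F) ((0 : ℕ) : ℤ) ≅
      (linearCoyoneda A (ModuleCat.{u} A)).obj (op Q) := (tFunIso ψ _ hq).symm ≪≫ c
  let toCyc : ∀ (M : ModuleCat.{u} A), (Q →ₗ[A] M) → Cyc A G (F := F) (M := M) := fun M φ =>
    (LinearEquiv.ofBijective _ (clsT_zero_bijective A G F M)).symm (e.inv.app M (ModuleCat.ofHom φ))
  have hbij : ∀ M, Function.Bijective (toCyc M) := fun M =>
    (LinearEquiv.ofBijective _ (clsT_zero_bijective A G F M)).symm.bijective.comp
      ((ConcreteCategory.bijective_of_isIso (e.inv.app M)).comp ModuleCat.homEquiv.symm.bijective)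
  have hadd : ∀ (M : ModuleCat.{u} A) (φ ψ : Q →ₗ[A] M), toCyc M (φ + ψ) = toCyc M φ + toCyc M ψ :=
    fun M φ ψ => by
      show LinearEquiv.symm _ (e.inv.app M (ModuleCat.ofHom (φ + ψ))) = _
      rw [show ModuleCat.ofHom (φ + ψ) = ModuleCat.ofHom φ + ModuleCat.ofHom ψ from rfl]
      erw [map_add, map_add]
  have hnat : ∀ {M N : ModuleCat.{u} A} (t : M ⟶ N) (φ : Q →ₗ[A] M),
      (toCyc N (t.hom ∘ₗ φ)).1 = t.hom.lTensor _ (toCyc M φ).1 := by
    intro M N t φ
    have h1 : e.inv.app N (ModuleCat.ofHom (t.hom ∘ₗ φ)) =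
        (CohIII.TFun (cxA A G.U F) ((0 : ℕ) : ℤ)).map t (e.inv.app M (ModuleCat.ofHom φ)) :=
      congr($(e.inv.naturality t) (ModuleCat.ofHom φ))
    obtain ⟨z, hz⟩ := (clsT_zero_bijective A G F M).2 (e.inv.app M (ModuleCat.ofHom φ))
    have hM : toCyc M φ = z := (LinearEquiv.symm_apply_eq _).2 hz.symm
    rw [← hz, FlatCxBase.TFun_map_clsT] at h1
    have hN : toCyc N (t.hom ∘ₗ φ) = ⟨_, FlatCxBase.lTensor_mem_ker _ M t z⟩ :=
      (LinearEquiv.symm_apply_eq _).2 h1
    rw [hN, hM]
  refine ⟨Q, hQ, fun φ => sec A G (selfModel A G.U F) (toCyc (ModuleCat.of A A) φ),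
    (sec_bijective A G (selfModel A G.U F)).comp (hbij _), fun a φ => ?_,
    fun B _ _ X' g f' hp => ?_⟩
  · refine sec_map A G (selfModel A G.U F) (selfModel A G.U F) (LinearMap.mulLeft A a)
      (fun W s => toSec A W a • (show Γ(F, W) from s)) (fun W z => ?_) (fun W s => ?_) _ _
      (hnat (ModuleCat.ofHom (LinearMap.mulLeft A a)) φ)
    · induction z using TensorProduct.induction_on with
      | zero => rw [map_zero, map_zero, map_zero]; exact smul_zero (A := Γ(F, W)) (toSec A W a)
      | tmul s c =>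
        change toSec A W a • (toSec A W c • (show Γ(F, W) from s)) =
          toSec A W (a * c) • (show Γ(F, W) from s)
        rw [map_mul, smul_smul]
      | add p q hp hq =>
        rw [map_add, map_add, map_add, ← hp, ← hq]
        exact smul_add (A := Γ(F, W)) (toSec A W a) _ _
    · exact ((QCohMod.res_smul F (le_top : W ≤ ⊤) _ s).trans
        (congrArg (· • _) (resFun_toSec A (le_top : W ≤ ⊤) a))).symm
  refine ⟨fun φ => sec A G (bcModel A B hp F G) (toCyc (ModuleCat.of A B) φ),
    (sec_bijective A G (bcModel A B hp F G)).comp (hbij _), fun φ ψ => ?_, fun b φ => ?_, fun φ => ?_⟩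
  · refine sec_unique (g := g) G fun x => ?_
    rw [res_sec, hadd]
    erw [map_add]
    erw [res_sec, res_sec]
    show comp₀ A G _ ((toCyc (ModuleCat.of A B) φ).1 + (toCyc (ModuleCat.of A B) ψ).1) x = _
    exact (congrArg ((bcModel A B hp F G).Φ (tupOpen G.U x)) (map_add _ _ _)).trans (map_add _ _ _)
  · refine sec_map A G (bcModel A B hp F G) (bcModel A B hp F G) (LinearMap.mulLeft A b)
      (fun W s => bSec B (f' := f') (g ⁻¹ᵁ W) b • s) (fun W z => ?_) (fun W s => ?_) _ _
      (hnat (ModuleCat.ofHom (LinearMap.mulLeft A b)) φ)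
    · change bSec B _ b • bcΦ A B hp F W z = bcΦ A B hp F W _
      induction z using TensorProduct.induction_on with
      | zero => simp
      | tmul s c => rw [LinearMap.lTensor_tmul, bcΦ_tmul, bcΦ_tmul, LinearMap.mulLeft_apply,
          map_mul, smul_smul]
      | add p q hp hq => simp only [map_add, smul_add, hp, hq]
    · exact ((QCohMod.res_smul _ (le_top : g ⁻¹ᵁ W ≤ ⊤) _ _).trans
        (congrArg (· • _) (resFun_bSec B _ b))).symm
  · refine sec_map A G (selfModel A G.U F) (bcModel A B hp F G) (Algebra.linearMap A B)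
      (fun W s => pullSec g F (show Γ(F, W) from s)) (fun W z => ?_) (fun W s => ?_) _ _
      (hnat (ModuleCat.ofHom (Algebra.linearMap A B)) φ)
    · induction z using TensorProduct.induction_on with
      | zero =>
        rw [map_zero, map_zero, map_zero]
        exact pullSec_zero g F
      | tmul s a =>
        change pullSec g F (toSec A W a • (show Γ(F, W) from s)) = bcΦ A B hp F W (s ⊗ₜ _)
        rw [pullSec_smul, appLE_toSec A B hp W a, bcΦ_tmul]
        rfl
      | add p q hp hq =>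
        rw [map_add, map_add, map_add, ← hp, ← hq]
        exact pullSec_add g F _ _
    · exact (res_pullSec (f := g) F (le_top : W ≤ ⊤) s).symm

end Groth.PicFreeLocus
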