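import Mathlib
import Groth.Agent.ThetaRep.Locus
import Groth.Agent.CohBase.HomNearFibre
import Groth.Agent.PicFreeLocus.Basis
import Groth.Agent.PicFreeLocus.Alg
import Groth.Agent.PicFreeLocus.Rep
import Groth.Agent.PicAux.SeesawReduced

/-!
Near a point with free fibre and constant functions, freeness over the base is the vanishing of an ideal.
-/

set_option autoImplicit false

universe u

open CategoryTheory CategoryTheory.Limits AlgebraicGeometry TopologicalSpace Opposite
open Groth.PicAux (Basis' res res_res res_self pullSec oneSec toFun pullUnit)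
open Groth.Abvar.Seesaw
open Groth.ThetaRep (glob)

noncomputable section

namespace Groth.PicFreeLocus

variable {R : Type u} [CommRing R] [IsNoetherianRing R] {P : Scheme.{u}}
  (π : P ⟶ Spec (CommRingCat.of R)) [IsProper π] [Flat π]

/-- The sections of all base changes of a finite locally free module are corepresented linearly. -/
theorem exists_rep_fl {E : P.Modules} (hE : FlatMod.IsFinLocFree E) :
    ∃ (Q : ModuleCat.{u} R) (_ : Module.Finite R Q) (θ₀ : (Q →ₗ[R] R) → Γ(E, ⊤)),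
      Function.Bijective θ₀ ∧
      ∀ (C : Type u) [CommRing C] [Algebra R C] (X : Scheme.{u}) (g : X ⟶ P) (q : X ⟶ Spec (CommRingCat.of C)),
        IsPullback g q π (Spec.map (CommRingCat.ofHom (algebraMap R C))) →
        ∃ θ : (Q →ₗ[R] C) → Γ((Scheme.Modules.pullback g).obj E, ⊤), Function.Bijective θ ∧
          (∀ (n : ℕ) (c : Fin n → C) (φ : Fin n → (Q →ₗ[R] C)),
            θ (∑ i, LinearMap.mulLeft R (c i) ∘ₗ φ i) = ∑ i, glob q (c i) • θ (φ i)) ∧
          ∀ φ : Q →ₗ[R] R, θ (Algebra.linearMap R C ∘ₗ φ) = pullSec g E (θ₀ φ) := by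
  letI : P.Over (Spec (CommRingCat.of R)) := ⟨π⟩
  have : IsProper (P ↘ Spec (CommRingCat.of R)) := ‹IsProper π›
  have : IsLocallyNoetherian P := LocallyOfFiniteType.isLocallyNoetherian π
  have hcoh : Coh.IsCoh E := Groth.KTheory.LocFree.isCoh fun x => by
    obtain ⟨U, n, hx, he⟩ := hE x
    exact ⟨U, n, hx, he⟩
  obtain ⟨Q, hQ, θ₀, h0, -, hB⟩ := exists_rep_additive R (F := E) hcoh
    (Groth.CohBase.isFlatOver_of_isFinLocFree π hE)
  refine ⟨Q, hQ, θ₀, h0, fun C _ _ X g q sq => ?_⟩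
  obtain ⟨θ, h1, hadd, h2, h3⟩ := @hB C _ _ X g q sq
  refine ⟨θ, h1, fun n c φ => ?_, h3⟩
  have hsum : ∀ ψ : Fin n → (Q →ₗ[R] C), θ (∑ i, ψ i) = ∑ i, θ (ψ i) := fun ψ =>
    map_sum (AddMonoidHom.mk' θ hadd) ψ _
  rw [hsum]
  exact Finset.sum_congr rfl fun i _ => (h2 _ _).trans (congrArg (· • θ (φ i)) (PicAux.resX_self _ _))

/-- Constant functions near a point with constant functions on the fibre. -/
theorem exists_glob_bijective_near (x : PrimeSpectrum R) (h0 : H0Const π x) :
    ∃ h : R, h ∉ x.asIdeal ∧ ∀ (C : Type u) [CommRing C] [Algebra R C] (X : Scheme.{u}) (g : X ⟶ P)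
      (q : X ⟶ Spec (CommRingCat.of C)), IsPullback g q π (Spec.map (CommRingCat.ofHom (algebraMap R C))) →
        IsUnit (algebraMap R C h) → Function.Bijective (glob q) := by
  obtain ⟨Q, hQ, θ₀, hθ₀, -, hB⟩ := Groth.ThetaRep.exists_rep_top π
    (PicLoc.isInvertible_structureModule P)
  letI := resAlgebra x
  obtain ⟨θx, hθx, hlinx, hnat⟩ := @hB ((Spec (CommRingCat.of R)).residueField x) _ (resAlgebra x) _ _ _
    (isPullback_fibre π x)
  have one_eq : ∀ {X : Scheme.{u}} (g : X ⟶ P),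
      (pullUnit g).app ⊤ (pullSec g _ (oneSec P ⊤)) = oneSec X ⊤ := fun g => PicAux.Seesaw.pullUnit_oneSec g ⊤
  have hgen : ∀ {X : Scheme.{u}} (g : X ⟶ P), PicAux.Gen ((Scheme.Modules.pullback g).obj
      (Coh.structureModule P)) ⊤ (pullSec g _ (oneSec P ⊤)) := fun g =>
    (PicAux.gen_oneSec (X := P) ⊤).pull g
  obtain ⟨φ₀, hφ₀⟩ := hθ₀.2 (oneSec P ⊤)
  have : Nonempty (π.fiber x) := nonempty_of_toGlobal_bijective (K := (Spec (CommRingCat.of R)).residueField x) h0
  have hne : Algebra.linearMap R ((Spec (CommRingCat.of R)).residueField x) ∘ₗ φ₀ ≠ 0 := fun h => by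
    have h2 := hlinx (0 : (Spec (CommRingCat.of R)).residueField x) (Algebra.linearMap R _ ∘ₗ φ₀)
    rw [map_zero, h, LinearMap.comp_zero] at h2
    have h3 := (congrArg θx h).symm.trans (hnat φ₀)
    rw [hφ₀] at h3
    exact gen_top_ne_zero (hgen (π.fiberι x)) (h3.symm.trans (h2.trans (zero_smul _ _)))
  obtain ⟨q₁, f, hfx, hq₁, hf⟩ := Groth.ThetaRep.exists_cyclic_near x (ker_resAlgebra x) hne fun φ => by
    obtain ⟨r, hr⟩ := (hgen (π.fiberι x)).exists_coeff le_rfl (θx φ)
    rw [PicAux.res_self] at hr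
    obtain ⟨b, rfl⟩ := h0.2 r
    refine ⟨b, hθx.1 ?_⟩
    rw [hlinx, hnat, hφ₀]
    exact hr
  refine ⟨f * φ₀ q₁, fun h => (x.isPrime.mem_or_mem h).elim hfx fun h' => hq₁ ((ker_resAlgebra x).ge h'),
    fun C _ _ X g q sq hu => ?_⟩
  rw [map_mul, IsUnit.mul_iff] at hu
  obtain ⟨θ, hθ, hlin, hnatC⟩ := @hB C _ _ _ _ _ sq
  have hI : ∀ a : R, a • q₁ = 0 → algebraMap R C a = 0 := fun a ha => by
    have h := congrArg φ₀ ha
    rw [map_smul, map_zero, smul_eq_mul] at h
    refine (IsUnit.mul_left_eq_zero hu.2).1 ?_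
    rw [← map_mul, h, map_zero]
  obtain ⟨φ₁, hφ₁, hall⟩ := Groth.ThetaRep.exists_form_eq_one hf hu.1 hI
  let u₁ : Γ((Scheme.Modules.pullback g).obj (Coh.structureModule P), ⊤) := pullSec g _ (oneSec P ⊤)
  have hm : ∀ c : C, θ (LinearMap.mulLeft R (c * algebraMap R C (φ₀ q₁)) ∘ₗ φ₁) =
      glob q c • u₁ := fun c => by
    refine (congrArg θ ?_).trans ((hlin c _).trans
      (congrArg (glob q c • ·) ((hnatC φ₀).trans (congrArg (pullSec g _) hφ₀))))
    rw [hall (Algebra.linearMap R C ∘ₗ φ₀)]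
    exact LinearMap.ext fun z => mul_assoc _ _ _
  refine ⟨fun c c' e => ?_, fun y => ?_⟩
  · have h := hθ.1 ((hm c).trans ((congrArg (· • u₁) e).trans (hm c').symm))
    have h' := LinearMap.congr_fun h q₁
    simp only [LinearMap.comp_apply, LinearMap.mulLeft_apply, hφ₁, mul_one] at h'
    exact hu.2.mul_right_cancel h'
  · obtain ⟨φ, hφ⟩ := hθ.2 (y • u₁)
    obtain ⟨v, hv⟩ := hu.2.exists_left_inv
    refine ⟨φ q₁ * v, (hgen g).smul_inj le_rfl ?_⟩
    have e : φ q₁ * v * algebraMap R C (φ₀ q₁) = φ q₁ := by rw [mul_assoc, hv, mul_one]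
    have h := hm (φ q₁ * v)
    rw [e, ← hall φ, hφ] at h
    refine Eq.trans ?_ (h.symm.trans ?_)
    · exact congrArg (glob q (φ q₁ * v) • ·) (PicAux.res_self _ _)
    · exact congrArg (y • ·) (PicAux.res_self _ _).symm

/-- The fibre carries a basis of global sections. -/
def FibFree (E : P.Modules) (x : PrimeSpectrum R) (n : ℕ) : Prop :=
  ∃ τ : Fin n → Γ((Scheme.Modules.pullback (π.fiberι x)).obj E, ⊤),
    Basis' ((Scheme.Modules.pullback (π.fiberι x)).obj E) ⊤ τ

/-- Near a point with free fibre of rank `n` the module has rank `n` along the fibres. -/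
theorem exists_rank_nhd {E : P.Modules} (hE : FlatMod.IsFinLocFree E) {x : PrimeSpectrum R} {n : ℕ}
    (hx : FibFree π E x n) :
    ∃ W : (Spec (CommRingCat.of R)).Opens, x ∈ W ∧
      ∀ z : P, π z ∈ W → ∃ (B : P.Opens) (t : Fin n → Γ(E, B)), z ∈ B ∧ Basis' E B t := by
  obtain ⟨τ, hτ⟩ := hx
  let G : Set P := {z | ∃ (B : P.Opens) (t : Fin n → Γ(E, B)), z ∈ B ∧ Basis' E B t}
  have hG : IsOpen G := isOpen_iff_forall_mem_open.2 fun z ⟨B, t, hz, ht⟩ =>
    ⟨B, fun z' hz' => ⟨B, t, hz', ht⟩, B.2, hz⟩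
  refine ⟨⟨(π '' Gᶜ)ᶜ, (π.isClosedMap _ hG.isClosed_compl).isOpen_compl⟩, ?_,
    fun z hz => not_not.1 fun h => hz ⟨z, h, rfl⟩⟩
  rintro ⟨z, hz, hzx⟩
  obtain ⟨w, rfl⟩ : ∃ w, π.fiberι x w = z := by
    change z ∈ Set.range (π.fiberι x)
    rw [π.range_fiberι]
    exact hzx
  obtain ⟨B, m, t, hzB, ht⟩ := Groth.PicAux.exists_basis_of_isFinLocFree hE (π.fiberι x w)
  obtain rfl : m = n := Groth.CohBase.rank_eq_of_basis' (U := π.fiberι x ⁻¹ᵁ B) (x := w) hzB
    (ht.pull (π.fiberι x)) (hτ.res' le_top)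
  exact hz ⟨B, t, hzB, ht⟩

omit [IsNoetherianRing R] [IsProper π] [Flat π] in
/-- A basis over the base makes the relations between generators of the dual die. -/
theorem relIdeal_le_of_basis {Q : Type u} [AddCommGroup Q] [Module R Q] {C : Type u} [CommRing C]
    [Algebra R C] {X : Scheme.{u}} {M : X.Modules} {q : X ⟶ Spec (CommRingCat.of C)}
    (hq : Function.Bijective (glob q)) {θ : (Q →ₗ[R] C) → Γ(M, ⊤)} (hθ : Function.Bijective θ)
    {n : ℕ} (hlin : ∀ (c : Fin n → C) (φ : Fin n → (Q →ₗ[R] C)),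
      θ (∑ i, LinearMap.mulLeft R (c i) ∘ₗ φ i) = ∑ i, glob q (c i) • θ (φ i))
    {σ : Fin n → Γ(M, ⊤)} (hσ : Basis' M ⊤ σ) {f : R} {e : Fin n → Q} (hf : GenBy f e)
    (hu : IsUnit (algebraMap R C f)) : relIdeal e ≤ RingHom.ker (algebraMap R C) := by
  choose φ hφ using fun i => hθ.2 (σ i)
  refine relIdeal_le_ker hf hu (φ := φ) fun c hc => ?_
  have h := congrArg θ hc
  rw [hlin, show (0 : Q →ₗ[R] C) = ∑ i : Fin n, LinearMap.mulLeft R ((fun _ => (0 : C)) i) ∘ₗ φ i by
    refine (Finset.sum_eq_zero fun i _ => LinearMap.ext fun z => ?_).symm; exact zero_mul _, hlin] at h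
  simp only [hφ] at h
  have h' := hσ ⊤ le_rfl
  simp only [res_self] at h'
  funext i
  exact hq.1 (congrFun (h'.1 (a₁ := fun i => glob q (c i)) (a₂ := fun _ => glob q 0) h) i)

variable [LocallyOfFinitePresentation π]

theorem exists_ideal_near {E : P.Modules} (hE : FlatMod.IsFinLocFree E) (x : PrimeSpectrum R) {n : ℕ}
    (hx : FibFree π E x n) (h0 : H0Const π x) :
    ∃ (h : R) (I : Ideal R), h ∉ x.asIdeal ∧
      (∀ (C : Type u) [CommRing C] [Algebra R C] (X : Scheme.{u}) (g : X ⟶ P) (q : X ⟶ Spec (CommRingCat.of C)),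
        IsPullback g q π (Spec.map (CommRingCat.ofHom (algebraMap R C))) → IsUnit (algebraMap R C h) →
          Function.Bijective (glob q) ∧
            (HasPushBasis q ((Scheme.Modules.pullback g).obj E) ↔ I ≤ RingHom.ker (algebraMap R C))) := by
  obtain ⟨h₁, hh₁, hH⟩ := exists_glob_bijective_near π x h0
  obtain ⟨W, hxW, hW⟩ := exists_rank_nhd π hE hx
  obtain ⟨Q, hQ, θ₀, -, hB⟩ := exists_rep_fl π hE
  letI := resAlgebra x
  obtain ⟨θx, hθx, hlinx, -⟩ := @hB ((Spec (CommRingCat.of R)).residueField x) _ (resAlgebra x) _ _ _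
    (isPullback_fibre π x)
  obtain ⟨τ, hτ⟩ := hx
  choose φ₀ hφ₀ using fun i => hθx.2 (τ i)
  have hτ' := hτ ⊤ le_rfl
  simp only [res_self] at hτ'
  have hind : ∀ c : Fin n → (Spec (CommRingCat.of R)).residueField x,
      ∑ i, LinearMap.mulLeft R (c i) ∘ₗ φ₀ i = 0 → c = 0 := fun c hc => by
    have h := congrArg θx hc
    rw [hlinx, show (0 : Q →ₗ[R] (Spec (CommRingCat.of R)).residueField x) =
      ∑ i : Fin n, LinearMap.mulLeft R ((fun _ => (0 : (Spec (CommRingCat.of R)).residueField x)) i) ∘ₗ φ₀ i by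
      refine (Finset.sum_eq_zero fun i _ => LinearMap.ext fun z => ?_).symm; exact zero_mul _, hlinx] at h
    simp only [hφ₀] at h
    funext i
    exact h0.1 (congrFun (hτ'.1 (a₁ := fun i => glob _ (c i)) (a₂ := fun _ => glob _ 0) h) i)
  obtain ⟨e₁, f, hfx, hf⟩ := exists_genBy_near x (ker_resAlgebra x) hind fun ψ => by
    obtain ⟨r, hr⟩ := hτ'.2 (θx ψ)
    choose b hb using fun i => h0.2 (r i)
    refine ⟨b, hθx.1 ?_⟩
    rw [hlinx]
    simp only [hφ₀]
    exact hr.symm.trans (Finset.sum_congr rfl fun i _ => congrArg (· • τ i) (hb i).symm)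
  let I := relIdeal (R := R) e₁
  have huf : IsUnit (algebraMap R ((Spec (CommRingCat.of R)).residueField x) f) :=
    isUnit_iff_ne_zero.2 fun h => hfx ((ker_resAlgebra x).le h)
  have hIx := relIdeal_le_of_basis h0 hθx (hlinx n) hτ hf huf
  -- the closed subscheme of `D(f)`
  let C₀ := Localization.Away f ⧸ I.map (algebraMap R (Localization.Away f))
  have huf₀ : IsUnit (algebraMap R C₀ f) := by
    rw [IsScalarTower.algebraMap_apply R (Localization.Away f) C₀]
    exact (IsLocalization.Away.algebraMap_isUnit f).map _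
  have hI₀ : I ≤ RingHom.ker (algebraMap R C₀) := fun a ha => by
    rw [RingHom.mem_ker, IsScalarTower.algebraMap_apply R (Localization.Away f) C₀]
    exact Ideal.Quotient.eq_zero_iff_mem.2 (Ideal.mem_map_of_mem _ ha)
  have hlift : ∀ (C : Type u) [CommRing C] [Algebra R C], IsUnit (algebraMap R C f) →
      I ≤ RingHom.ker (algebraMap R C) → ∃ e : C₀ →+* C, ∀ a, e (algebraMap R C₀ a) = algebraMap R C a := by
    intro C _ _ hu hv
    refine ⟨Ideal.Quotient.lift _ (IsLocalization.Away.lift f hu) (fun a ha => ?_), fun a => ?_⟩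
    · refine (Ideal.map_le_iff_le_comap (K := RingHom.ker (IsLocalization.Away.lift f hu))).2 ?_ ha
      intro b hb
      rw [Ideal.mem_comap, RingHom.mem_ker, IsLocalization.Away.lift_eq]
      exact hv hb
    · rw [IsScalarTower.algebraMap_apply R (Localization.Away f) C₀]
      exact IsLocalization.Away.lift_eq f hu a
  haveI : IsNoetherianRing (Localization.Away f) :=
    IsLocalization.isNoetherianRing (Submonoid.powers f) _ inferInstance
  let b₀ := Spec.map (CommRingCat.ofHom (algebraMap R C₀))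
  let g₀ := pullback.fst π b₀
  let π₀ := pullback.snd π b₀
  have sq₀ : IsPullback g₀ π₀ π b₀ := IsPullback.of_hasPullback _ _
  have : IsProper π₀ := MorphismProperty.of_isPullback sq₀ ‹_›
  have : Flat π₀ := MorphismProperty.of_isPullback sq₀ ‹_›
  let E₀ := (Scheme.Modules.pullback g₀).obj E
  have hE₀ : FlatMod.IsFinLocFree E₀ := Groth.LocFree.isFinLocFree_pullback g₀ hE
  obtain ⟨θ₁, hθ₁, hlin₁, -⟩ := @hB C₀ _ _ _ _ _ sq₀
  obtain ⟨φ₁, hφ₁, hall⟩ := exists_forms hf huf₀ hI₀
  obtain ⟨e, he⟩ := hlift _ huf hIx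
  let x₀ : PrimeSpectrum C₀ := ⟨RingHom.ker e, RingHom.ker_isPrime e⟩
  have hmem : ∀ a : R, algebraMap R C₀ a ∈ x₀.asIdeal ↔ a ∈ x.asIdeal := fun a => by
    rw [← ker_resAlgebra x]
    show e _ = 0 ↔ _
    rw [he]
    rfl
  have hb₀ : b₀ x₀ = x := PrimeSpectrum.ext (Ideal.ext fun a => hmem a)
  let K₀ := (Spec (CommRingCat.of C₀)).residueField x₀
  -- the fibre over `x₀` is an extension of the fibre over `x`
  let mx : π₀.fiber x₀ ⟶ π.fiber (b₀ x₀) :=
    pullback.map _ _ _ _ g₀ (Spec.map (b₀.residueFieldMap x₀)) b₀ sq₀.w.symm (by simp)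
  have hmx : mx ≫ π.fiberι (b₀ x₀) = π₀.fiberι x₀ ≫ g₀ := pullback.lift_fst _ _ _
  obtain ⟨τ₀, hτ₀⟩ : ∃ τ₀ : Fin n → Γ((Scheme.Modules.pullback (π₀.fiberι x₀)).obj E₀, ⊤),
      Basis' ((Scheme.Modules.pullback (π₀.fiberι x₀)).obj E₀) ⊤ τ₀ := by
    let eI := (Scheme.Modules.pullbackComp mx (π.fiberι (b₀ x₀))).app E ≪≫
      (Scheme.Modules.pullbackCongr hmx).app E ≪≫
      ((Scheme.Modules.pullbackComp (π₀.fiberι x₀) g₀).app E).symm
    obtain ⟨τ', hτ''⟩ : ∃ τ' : Fin n → Γ((Scheme.Modules.pullback (π.fiberι (b₀ x₀))).obj E, ⊤),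
        Basis' _ ⊤ τ' := by
      have key : ∀ y : ↥(Spec (CommRingCat.of R)), y = x →
          ∃ τ' : Fin n → Γ((Scheme.Modules.pullback (π.fiberι y)).obj E, ⊤), Basis' _ ⊤ τ' := by
        rintro y rfl
        exact ⟨_, hτ⟩
      exact key _ hb₀
    exact exists_basis_congr eI (hτ''.pull mx)
  letI : Algebra C₀ K₀ := resAlgebra (R := C₀) x₀
  letI : Algebra R K₀ := ((algebraMap C₀ K₀).comp (algebraMap R C₀)).toAlgebra
  have hu₁ : IsUnit (algebraMap R K₀ h₁) := by
    have h' : algebraMap C₀ K₀ (algebraMap R C₀ h₁) ≠ 0 := fun h' =>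
      hh₁ ((hmem h₁).1 ((ker_resAlgebra x₀).le h'))
    exact isUnit_iff_ne_zero.2 h'
  have h00 : H0Const (B := Spec (CommRingCat.of C₀)) π₀ x₀ := by
    refine @hH K₀ _ ((algebraMap C₀ K₀).comp (algebraMap R C₀)).toAlgebra (π₀.fiber x₀) (π₀.fiberι x₀ ≫ g₀) (π₀.fiberToSpecResidueField x₀) ?_ hu₁
    have := (isPullback_fibre π₀ x₀).paste_horiz sq₀
    rw [← Spec.map_comp] at this
    exact this
  have : Nonempty (π₀.fiber x₀) := nonempty_of_toGlobal_bijective (K := K₀) h00
  obtain ⟨Q₀, hQ₀, η₀, hη₀, hB₀⟩ := exists_rep_fl π₀ hE₀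
  obtain ⟨θy, hθy, hliny, hnat⟩ := @hB₀ K₀ _ (resAlgebra x₀) _ _ _ (isPullback_fibre π₀ x₀)
  choose ψ₀ hψ₀ using fun i => hθy.2 (τ₀ i)
  have hτ₀' := hτ₀ ⊤ le_rfl
  simp only [res_self] at hτ₀'
  obtain ⟨e₀, g, hgx, hg⟩ := exists_genBy_near x₀ (ker_resAlgebra x₀) (φ := ψ₀) (fun c hc => by
      have h := congrArg θy hc
      rw [hliny, show (0 : Q₀ →ₗ[C₀] K₀) =
        ∑ i : Fin n, LinearMap.mulLeft C₀ ((fun _ => (0 : K₀)) i) ∘ₗ ψ₀ i by
        refine (Finset.sum_eq_zero fun i _ => LinearMap.ext fun z => ?_).symm; exact zero_mul _, hliny] at h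
      simp only [hψ₀] at h
      funext i
      exact h00.1 (congrFun (hτ₀'.1 (a₁ := fun i => glob _ (c i)) (a₂ := fun _ => glob _ 0) h) i))
    fun ψ => by
      obtain ⟨r, hr⟩ := hτ₀'.2 (θy ψ)
      choose b hb using fun i => h00.2 (r i)
      refine ⟨b, hθy.1 ?_⟩
      rw [hliny]
      simp only [hψ₀]
      exact hr.symm.trans (Finset.sum_congr rfl fun i _ => congrArg (· • τ₀ i) (hb i).symm)
  -- the generators of `Q₀` are free after inverting `g`
  obtain ⟨θ₂, hθ₂, hlin₂, -⟩ := @hB₀ C₀ _ _ _ (𝟙 _) π₀ (by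
    rw [show CommRingCat.ofHom (algebraMap C₀ C₀) = 𝟙 (CommRingCat.of C₀) from rfl, Spec.map_id]
    exact IsPullback.of_horiz_isIso ⟨by simp⟩)
  let eI₂ := (Scheme.Modules.pullbackId (pullback π b₀)).app E₀
  choose φ' hφ' using fun i => hθ₂.2 (eI₂.inv.app ⊤ (θ₁ (φ₁ i)))
  have hfree : ∀ c : Fin n → C₀, ∑ i, LinearMap.mulLeft C₀ (c i) ∘ₗ φ' i = 0 → c = 0 := fun c hc => by
    have h := congrArg θ₂ hc
    rw [hlin₂, show (0 : Q₀ →ₗ[C₀] C₀) =
      ∑ i : Fin n, LinearMap.mulLeft C₀ ((fun _ => (0 : C₀)) i) ∘ₗ φ' i by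
      refine (Finset.sum_eq_zero fun i _ => LinearMap.ext fun z => ?_).symm; exact zero_mul _, hlin₂] at h
    simp only [hφ'] at h
    simp only [← Scheme.Modules.Hom.app_smul, ← map_sum] at h
    have h1 := (ConcreteCategory.bijective_of_isIso (eI₂.inv.app ⊤)).1 h
    rw [← hlin₁, ← hlin₁] at h1
    funext i
    have h2 := LinearMap.congr_fun (hθ₁.1 h1) (e₁ i)
    simpa [LinearMap.sum_apply, hφ₁] using h2
  obtain ⟨N, hN⟩ : ∃ N : ℕ, ∀ a : Fin n → C₀, ∑ j, a j • e₀ j = 0 → ∀ j, g ^ N * a j = 0 := by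
    let L := LinearMap.ker (Fintype.linearCombination C₀ e₀)
    obtain ⟨s, hs⟩ := (IsNoetherian.noetherian L : L.FG)
    have hone : ∀ a ∈ s, ∃ N : ℕ, ∀ j, g ^ N * a j = 0 := fun a ha => by
      have haL : ∑ j, a j • e₀ j = 0 := by
        have h := hs.le (Submodule.subset_span (Finset.mem_coe.2 ha))
        rwa [LinearMap.mem_ker, Fintype.linearCombination_apply] at h
      letI : Algebra C₀ (Localization.Away g) := inferInstance
      let φg : Fin n → (Q₀ →ₗ[C₀] Localization.Away g) := fun i => Algebra.linearMap C₀ _ ∘ₗ φ' i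
      have hk := relIdeal_le_ker (C := Localization.Away g) hg (IsLocalization.Away.algebraMap_isUnit g)
        (φ := φg) fun c hc => by
          obtain ⟨⟨_, N, rfl⟩, hN⟩ := IsLocalization.exist_integer_multiples_of_finite (Submonoid.powers g) c
          choose d hd using hN
          have hgu := (IsLocalization.Away.algebraMap_isUnit (S := Localization.Away g) g).pow N
          have hz : ∀ z : Q₀, algebraMap C₀ (Localization.Away g) (∑ i, d i * φ' i z) = 0 := fun z => by
            have h := LinearMap.congr_fun hc z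
            rw [LinearMap.sum_apply, LinearMap.zero_apply] at h
            rw [map_sum]
            refine Eq.trans ?_ ((congrArg (algebraMap C₀ _ (g ^ N) * ·) h).trans (mul_zero _))
            rw [Finset.mul_sum]
            refine Finset.sum_congr rfl fun i _ => ?_
            rw [map_mul, hd i, Algebra.smul_def, mul_assoc]
            rfl
          obtain ⟨⟨_, M, rfl⟩, hM⟩ : ∃ m : Submonoid.powers g, ∀ i, (m : C₀) * d i = 0 := by
            choose m hm using fun j => (IsLocalization.map_eq_zero_iff (Submonoid.powers g) (Localization.Away g) _).1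
              (hz (e₀ j))
            refine ⟨(∏ j, m j) * ⟨g, Submonoid.mem_powers g⟩, fun i => ?_⟩
            have hzero : ∑ l, LinearMap.mulLeft C₀ (((∏ j, m j : Submonoid.powers g) : C₀) * g * d l) ∘ₗ φ' l = 0 := by
              refine LinearMap.ext fun z => ?_
              obtain ⟨b, hb⟩ := hg z
              rw [LinearMap.sum_apply, LinearMap.zero_apply]
              show ∑ l, ((∏ j, m j : Submonoid.powers g) : C₀) * g * d l * φ' l z = 0
              calc _ = ∑ l, ∑ j, b j * (((∏ j, m j : Submonoid.powers g) : C₀) * (d l * φ' l (e₀ j))) := by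
                    refine Finset.sum_congr rfl fun l _ => ?_
                    have h := congrArg (φ' l) hb
                    simp only [map_sum, map_smul, smul_eq_mul] at h
                    calc _ = ((∏ j, m j : Submonoid.powers g) : C₀) * d l * (g * φ' l z) := by ring
                      _ = _ := by
                        rw [h, Finset.mul_sum]
                        exact Finset.sum_congr rfl fun j _ => by ring
                _ = ∑ j, b j * (((∏ j, m j : Submonoid.powers g) : C₀) * ∑ l, d l * φ' l (e₀ j)) := by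
                    exact Finset.sum_comm.trans (Finset.sum_congr rfl fun j _ => by
                      rw [← Finset.mul_sum, ← Finset.mul_sum])
                _ = 0 := Finset.sum_eq_zero fun j _ => by
                    rw [← Finset.mul_prod_erase Finset.univ m (Finset.mem_univ j), Submonoid.coe_mul,
                      mul_comm (m j : C₀), mul_assoc, hm j, mul_zero, mul_zero]
            exact congrFun (hfree _ hzero) i
          funext i
          refine hgu.mul_right_eq_zero.1 ?_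
          rw [← map_pow, ← Algebra.smul_def, ← hd i]
          exact (IsLocalization.map_eq_zero_iff (Submonoid.powers g) _ _).2 ⟨⟨_, M, rfl⟩, hM i⟩
      choose m hm using fun j => (IsLocalization.map_eq_zero_iff (Submonoid.powers g) (Localization.Away g) _).1
        (RingHom.mem_ker.1 (hk (mem_relIdeal haL j)))
      choose k hk' using fun j => (m j).2
      refine ⟨∑ j, k j, fun j => ?_⟩
      rw [← Finset.add_sum_erase Finset.univ k (Finset.mem_univ j), pow_add, mul_right_comm,
        show g ^ k j = (m j : C₀) from hk' j, hm j, zero_mul]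
    choose N hN using hone
    classical
    refine ⟨∑ a : s, N a.1 a.2, fun a ha => ?_⟩
    have hmem' : a ∈ Submodule.span C₀ (s : Set (Fin n → C₀)) := by
      rw [hs, LinearMap.mem_ker, Fintype.linearCombination_apply]
      exact ha
    have hle : Submodule.span C₀ (s : Set (Fin n → C₀)) ≤
        LinearMap.ker (LinearMap.lsmul C₀ (Fin n → C₀) (g ^ ∑ a : s, N a.1 a.2)) := by
      refine Submodule.span_le.2 fun b hb => ?_
      rw [SetLike.mem_coe, LinearMap.mem_ker]
      funext j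
      show g ^ _ * b j = 0
      rw [← Finset.add_sum_erase Finset.univ (fun a : s => N a.1 a.2) (Finset.mem_univ ⟨b, hb⟩),
        pow_add, mul_right_comm, hN b hb j, zero_mul]
    exact fun j => congrFun (hle hmem') j
  -- sections over `C₀` forming a basis on the fibre
  choose a ha using hg
  have key : ∀ (r : Fin n → C₀) (z : Q₀), g • z = ∑ j, r j • e₀ j → ∀ i, g ^ N * a z i = g ^ N * r i := fun r z h i => by
    rw [← sub_eq_zero, ← mul_sub]
    refine hN (fun j => a z j - r j) ?_ i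
    simp only [sub_smul, Finset.sum_sub_distrib]
    rw [← ha, h, sub_self]
  let ψ : Fin n → (Q₀ →ₗ[C₀] C₀) := fun i =>
    { toFun := fun z => g ^ N * a z i
      map_add' := fun z z' => by
        rw [key (fun j => a z j + a z' j) (z + z')
          (by simp only [add_smul, Finset.sum_add_distrib]; rw [← ha, ← ha, smul_add]), mul_add]
      map_smul' := fun r z => by
        rw [key (fun j => r * a z j) (r • z)
          (by simp only [mul_smul, ← Finset.smul_sum]; rw [← ha, smul_comm]), RingHom.id_apply, smul_eq_mul]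
        ring }
  have hψe : ∀ i j, ψ i (e₀ j) = if i = j then g ^ N * g else 0 := fun i j => by
    show g ^ N * a (e₀ j) i = _
    rw [key (fun l => if l = j then g else 0) (e₀ j)
      ((Finset.sum_eq_single j (fun b _ hb => by rw [if_neg hb]; exact zero_smul C₀ (e₀ b))
        (fun h => absurd (Finset.mem_univ j) h)).trans (by rw [if_pos rfl])).symm i]
    split_ifs <;> simp
  have hgu : IsUnit (algebraMap C₀ K₀ g) := isUnit_iff_ne_zero.2 fun h => hgx ((ker_resAlgebra x₀).le h)
  have hgN : IsUnit (algebraMap C₀ K₀ (g ^ N * g)) := by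
    rw [map_mul, map_pow]
    exact (hgu.pow N).mul hgu
  have hfib : Basis' ((Scheme.Modules.pullback (π₀.fiberι x₀)).obj E₀) ⊤
      fun i => pullSec (π₀.fiberι x₀) E₀ (η₀ (ψ i)) := by
    -- coordinates of these sections in the basis of the fibre
    choose c hc using fun ξ => hτ₀'.2 ξ
    choose A hA using fun i l => h00.2 (c (pullSec (π₀.fiberι x₀) E₀ (η₀ (ψ i))) l)
    have hexp : ∀ i, pullSec (π₀.fiberι x₀) E₀ (η₀ (ψ i)) = ∑ l, glob _ (A i l) • τ₀ l := fun i =>
      (hc _).symm.trans (Finset.sum_congr rfl fun l _ => congrArg (· • τ₀ l) (hA i l).symm)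
    have hform : ∀ i, Algebra.linearMap C₀ K₀ ∘ₗ ψ i = ∑ l, LinearMap.mulLeft C₀ (A i l) ∘ₗ ψ₀ l := fun i =>
      hθy.1 (by rw [hnat, hliny, hexp]; simp only [hψ₀])
    have hdet : IsUnit (Matrix.of A).det := by
      let B : Matrix (Fin n) (Fin n) K₀ := Matrix.of fun l j => ψ₀ l (e₀ j)
      have hAB : Matrix.of A * B = Matrix.scalar (Fin n) (algebraMap C₀ K₀ (g ^ N * g)) := by
        ext i j
        have h := LinearMap.congr_fun (hform i) (e₀ j)
        rw [LinearMap.comp_apply, hψe, LinearMap.sum_apply] at h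
        rw [Matrix.mul_apply, Matrix.scalar_apply, Matrix.diagonal_apply]
        refine h.symm.trans ?_
        split_ifs
        · rfl
        · exact map_zero (Algebra.linearMap C₀ K₀)
      have h := congrArg Matrix.det hAB
      rw [Matrix.det_mul, Matrix.scalar_apply, Matrix.det_diagonal, Finset.prod_const] at h
      exact isUnit_of_mul_isUnit_left (h ▸ hgN.pow _)
    intro V hV
    refine SpecFerrand.bijective_of_det_isUnit
      (((PicAux.resX _ hV).comp (glob (π₀.fiberToSpecResidueField x₀))).mapMatrix (Matrix.of A))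
      (fun k => ?_) (by rw [← RingHom.map_det]; exact hdet.map _) (hτ₀ V hV)
    show res _ hV (pullSec (π₀.fiberι x₀) E₀ (η₀ (ψ k))) = _
    rw [hexp, PicAux.res_sum]
    simp [PicAux.res_smul]
    rfl
  obtain ⟨V, hxV, hV⟩ := exists_basis_nhd π₀ hE₀ (fun i => η₀ (ψ i)) x₀ hfib
  obtain ⟨_, ⟨_, ⟨c, rfl⟩, rfl⟩, hxc, hcV⟩ :=
    PrimeSpectrum.isBasis_basic_opens.exists_subset_of_mem_open hxV V.isOpen
  obtain ⟨c', hc'⟩ := Ideal.Quotient.mk_surjective c
  obtain ⟨⟨r, ⟨_, N', rfl⟩⟩, hr⟩ := IsLocalization.surj (Submonoid.powers f) c'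
  have hcr : c * algebraMap R C₀ (f ^ N') = algebraMap R C₀ r := by
    rw [← hc', IsScalarTower.algebraMap_apply R (Localization.Away f) C₀ (f ^ N'),
      IsScalarTower.algebraMap_apply R (Localization.Away f) C₀ r, ← hr, map_mul]
    rfl
  have hrx : r ∉ x.asIdeal := fun h => by
    have h1 := (hmem r).2 h
    rw [← hcr] at h1
    rcases x₀.isPrime.mem_or_mem h1 with h2 | h2
    · exact hxc h2
    · exact hfx (x.isPrime.mem_of_pow_mem N' ((hmem _).1 h2))
  obtain ⟨_, ⟨_, ⟨w, rfl⟩, rfl⟩, hxw, hwW⟩ :=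
    PrimeSpectrum.isBasis_basic_opens.exists_subset_of_mem_open hxW W.isOpen
  refine ⟨f * r * h₁ * w, I, fun h => ?_, fun C _ _ X g' q sq hu => ?_⟩
  · rcases x.isPrime.mem_or_mem h with h | h
    · rcases x.isPrime.mem_or_mem h with h | h
      · exact (x.isPrime.mem_or_mem h).elim hfx hrx
      · exact hh₁ h
    · exact hxw h
  rw [map_mul, map_mul, map_mul, IsUnit.mul_iff, IsUnit.mul_iff, IsUnit.mul_iff] at hu
  obtain ⟨⟨⟨huf', hur⟩, hu₁'⟩, huw⟩ := hu
  refine ⟨hH C X g' q sq hu₁', ⟨fun hb a ha => ?_, fun hv => ?_⟩⟩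
  · -- locally on `Spec C` there is a basis
    by_contra hne
    obtain ⟨M, hM, hMle⟩ := Ideal.exists_le_maximal (Submodule.annihilator (Submodule.span C {algebraMap R C a}))
      (fun htop => hne (RingHom.mem_ker.2 (by
        have h1 : (1 : C) ∈ Submodule.annihilator (Submodule.span C {algebraMap R C a}) := by rw [htop]; trivial
        rw [Submodule.mem_annihilator_span_singleton, one_smul] at h1
        exact h1)))
    let p : PrimeSpectrum C := ⟨M, hM.isPrime⟩
    obtain ⟨O, m, σ, hpO, hσ⟩ := hb p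
    obtain ⟨_, ⟨_, ⟨d, rfl⟩, rfl⟩, hpd, hdO⟩ :=
      PrimeSpectrum.isBasis_basic_opens.exists_subset_of_mem_open hpO O.isOpen
    let Cd := Localization.Away d
    let bd := Spec.map (CommRingCat.ofHom (algebraMap C Cd))
    let Xd := pullback q bd
    have sqd : IsPullback (pullback.fst q bd) (pullback.snd q bd) q bd := IsPullback.of_hasPullback _ _
    have sqR : IsPullback (pullback.fst q bd ≫ g') (pullback.snd q bd) π
        (Spec.map (CommRingCat.ofHom (algebraMap R Cd))) := by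
      have := sqd.paste_horiz sq
      rwa [← Spec.map_comp, ← CommRingCat.ofHom_comp, ← IsScalarTower.algebraMap_eq] at this
    have htop : (⊤ : Xd.Opens) ≤ pullback.fst q bd ⁻¹ᵁ (q ⁻¹ᵁ O) := fun z _ => by
      show q (pullback.fst q bd z) ∈ O
      refine hdO ?_
      rw [show q (pullback.fst q bd z) = bd (pullback.snd q bd z) from congr($(sqd.w) z)]
      show algebraMap C Cd d ∉ (pullback.snd q bd z).asIdeal
      exact fun h => (pullback.snd q bd z).isPrime.ne_top
        (Ideal.eq_top_of_isUnit_mem _ h (IsLocalization.Away.algebraMap_isUnit d))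
    obtain ⟨σd, hσd⟩ := exists_basis_congr
      ((Scheme.Modules.pullbackComp (pullback.fst q bd) g').app E) ((hσ.pull (pullback.fst q bd)).res' htop)
    have hu' : ∀ s : R, IsUnit (algebraMap R C s) → IsUnit (algebraMap R Cd s) := fun s hs => by
      rw [IsScalarTower.algebraMap_apply R C Cd]
      exact hs.map _
    have hqd := hH Cd Xd _ _ sqR (hu' _ hu₁')
    have : Nontrivial Cd := by
      refine ⟨1, 0, fun h10 => ?_⟩
      rw [← map_one (algebraMap C Cd), IsLocalization.map_eq_zero_iff (Submonoid.powers d)] at h10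
      obtain ⟨⟨_, N, rfl⟩, hN⟩ := h10
      rw [mul_one] at hN
      exact hpd (p.isPrime.mem_of_pow_mem N (by rw [show d ^ N = 0 from hN]; exact zero_mem _))
    have : Nonempty Xd := by
      by_contra hempty
      rw [not_nonempty_iff] at hempty
      have hsub : Subsingleton Γ(Xd, ⊤) := by
        rw [show (⊤ : Xd.Opens) = ⊥ from Opens.ext (Subsingleton.elim _ _)]
        infer_instance
      exact one_ne_zero (hqd.1 (hsub.elim (glob (pullback.snd q bd) 1) (glob (pullback.snd q bd) 0)))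
    obtain ⟨z⟩ := this
    have hzW : π ((pullback.fst q bd ≫ g') z) ∈ W := by
      refine hwW ?_
      rw [show π ((pullback.fst q bd ≫ g') z) =
        Spec.map (CommRingCat.ofHom (algebraMap R Cd)) (pullback.snd q bd z) from congr($(sqR.w) z)]
      show algebraMap R Cd w ∉ (pullback.snd q bd z).asIdeal
      exact fun h => (pullback.snd q bd z).isPrime.ne_top (Ideal.eq_top_of_isUnit_mem _ h (hu' _ huw))
    obtain ⟨B, t, hzB, ht⟩ := hW _ hzW
    obtain rfl : m = n := Groth.CohBase.rank_eq_of_basis'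
      (U := (pullback.fst q bd ≫ g') ⁻¹ᵁ B) (x := z) hzB (hσd.res' le_top) (ht.pull _)
    obtain ⟨θd, hθd, hlind, -⟩ := @hB Cd _ _ _ _ _ sqR
    have hz := relIdeal_le_of_basis hqd hθd (hlind _) hσd hf (hu' _ huf') ha
    rw [RingHom.mem_ker, IsScalarTower.algebraMap_apply R C Cd,
      IsLocalization.map_eq_zero_iff (Submonoid.powers d)] at hz
    obtain ⟨⟨_, N, rfl⟩, hN⟩ := hz
    exact hpd (p.isPrime.mem_of_pow_mem N (hMle ((Submodule.mem_annihilator_span_singleton _ _).2 hN)))
  · obtain ⟨e', he'⟩ := hlift C huf' hv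
    have hd : Spec.map (CommRingCat.ofHom e') ≫ b₀ = Spec.map (CommRingCat.ofHom (algebraMap R C)) := by
      rw [← Spec.map_comp, ← CommRingCat.ofHom_comp]
      exact congrArg (fun t => Spec.map (CommRingCat.ofHom t)) (RingHom.ext he')
    let m : X ⟶ pullback π b₀ := pullback.lift g' (q ≫ Spec.map (CommRingCat.ofHom e'))
      (by rw [Category.assoc, hd]; exact sq.w)
    have hm : (⊤ : X.Opens) ≤ m ⁻¹ᵁ (π₀ ⁻¹ᵁ V) := fun z _ => by
      show π₀ (m z) ∈ V
      refine hcV ?_
      have : π₀ (m z) = Spec.map (CommRingCat.ofHom e') (q z) := by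
        rw [← Scheme.Hom.comp_apply, ← Scheme.Hom.comp_apply, pullback.lift_snd]
      rw [this]
      show e' c ∉ (q z).asIdeal
      intro hc
      have h1 : e' (c * algebraMap R C₀ (f ^ N')) ∈ (q z).asIdeal := by
        rw [map_mul]
        exact (q z).asIdeal.mul_mem_right _ hc
      rw [hcr, he'] at h1
      exact (q z).isPrime.ne_top (Ideal.eq_top_of_isUnit_mem _ h1 hur)
    have hle : q ⁻¹ᵁ ⊤ ≤ m ⁻¹ᵁ (π₀ ⁻¹ᵁ V) := hm
    refine HasPushBasis.of_iso ((Scheme.Modules.pullbackComp m g₀).app E ≪≫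
      (Scheme.Modules.pullbackCongr (pullback.lift_fst _ _ _)).app E) fun t => ?_
    exact ⟨⊤, n, _, trivial, (hV.pull m).res' hle⟩

end Groth.PicFreeLocus
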