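import Mathlib
import Groth.Agent.PicFreeLocus.Near

/-!
Global bases descend along field extensions when functions are constant.
-/

set_option autoImplicit false

universe u

open CategoryTheory CategoryTheory.Limits AlgebraicGeometry TopologicalSpace Opposite
open Groth.PicAux (Basis' res res_res res_self pullSec)
open Groth.Abvar.Seesaw
open Groth.ThetaRep (glob)

noncomputable section

namespace Groth.PicFreeLocus

theorem exists_basis_of_field_ext {κ : Type u} [Field κ] {P : Scheme.{u}}
    (π : P ⟶ Spec (CommRingCat.of κ)) [IsProper π] [Flat π] {E : P.Modules} (hE : FlatMod.IsFinLocFree E)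
    {K : Type u} [Field K] [Algebra κ K] {Y : Scheme.{u}} {g : Y ⟶ P} {q : Y ⟶ Spec (CommRingCat.of K)}
    (sq : IsPullback g q π (Spec.map (CommRingCat.ofHom (algebraMap κ K))))
    (hq : Function.Bijective (glob q)) {n : ℕ}
    {τ : Fin n → Γ((Scheme.Modules.pullback g).obj E, ⊤)}
    (hτ : Basis' ((Scheme.Modules.pullback g).obj E) ⊤ τ) :
    ∃ (m : ℕ) (σ : Fin m → Γ(E, ⊤)), Basis' E ⊤ σ := by
  classical
  obtain ⟨Q, hQ, θ₀, -, hB⟩ := exists_rep_fl π hE
  obtain ⟨θ, hθ, hlin, hnat⟩ := hB K Y g q sq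
  let b := Module.finBasis κ Q
  let m := Module.finrank κ Q
  let σ : Fin m → Γ(E, ⊤) := fun i => θ₀ (b.coord i)
  have hτ' := hτ ⊤ le_rfl
  simp only [res_self] at hτ'
  choose c hc using fun ξ => hτ'.2 ξ
  choose A hA using fun (i : Fin m) l => hq.2 (c (pullSec g E (σ i)) l)
  choose φ hφ using fun l => hθ.2 (τ l)
  let B : Matrix (Fin n) (Fin m) K := Matrix.of fun l i => φ l (b i)
  let pσ : Fin m → Γ((Scheme.Modules.pullback g).obj E, ⊤) := fun i => pullSec g E (σ i)
  have hσ : ∀ i, pσ i = ∑ l, glob q (A i l) • τ l := fun i =>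
    (hc _).symm.trans (Finset.sum_congr rfl fun l _ => congrArg (· • τ l) (hA i l).symm)
  have hψ : ∀ i, Algebra.linearMap κ K ∘ₗ b.coord i = ∑ l, LinearMap.mulLeft κ (A i l) ∘ₗ φ l := fun i =>
    hθ.1 (by rw [hnat, hlin]; simp only [hφ]; exact hσ i)
  have hAB : Matrix.of A * B = 1 := by
    ext i j
    have h := LinearMap.congr_fun (hψ i) (b j)
    rw [LinearMap.comp_apply, LinearMap.sum_apply] at h
    rw [Matrix.mul_apply, Matrix.one_apply]
    refine h.symm.trans ?_
    rw [Module.Basis.coord_apply, Module.Basis.repr_self, Finsupp.single_apply]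
    rcases eq_or_ne i j with rfl | hij
    · simp
    · simp [hij, hij.symm]
  have hφb : ∀ l, φ l = ∑ i, LinearMap.mulLeft κ (B l i) ∘ₗ (Algebra.linearMap κ K ∘ₗ b.coord i) := fun l => by
    refine b.ext fun j => ?_
    rw [LinearMap.sum_apply, Finset.sum_eq_single j]
    · simp [B]
    · intro i _ hij
      simp [hij, hij.symm]
    · simp
  have hBA : B * Matrix.of A = 1 := by
    ext l k
    have h := congrArg θ (hφb l)
    rw [hφ, hlin] at h
    simp only [hnat] at h
    have h' : τ l = ∑ i, glob q (B l i) • pσ i := h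
    have h2 : τ l = ∑ k, glob q ((B * Matrix.of A) l k) • τ k := by
      refine h'.trans ?_
      refine (Finset.sum_congr rfl fun i _ => (congrArg (glob q (B l i) • ·) (hσ i)).trans Finset.smul_sum).trans ?_
      rw [Finset.sum_comm]
      refine Finset.sum_congr rfl fun k _ => ?_
      rw [Matrix.mul_apply, map_sum, Finset.sum_smul]
      exact Finset.sum_congr rfl fun i _ => by rw [smul_smul, ← map_mul]; rfl
    have h3 : τ l = ∑ k, glob q ((1 : Matrix (Fin n) (Fin n) K) l k) • τ k := by
      rw [Finset.sum_eq_single l (fun k _ hk => by rw [Matrix.one_apply_ne hk.symm, map_zero, zero_smul])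
        (by simp)]
      rw [Matrix.one_apply_eq, map_one, one_smul]
    exact hq.1 (congrFun (hτ'.1 (a₁ := fun k => glob q ((B * Matrix.of A) l k))
      (a₂ := fun k => glob q ((1 : Matrix (Fin n) (Fin n) K) l k)) (h2.symm.trans h3)) k)
  have hmn : m = n := by
    simpa using Matrix.square_of_invertible (Matrix.of A) B hAB hBA
  subst hmn
  have hdet : IsUnit (Matrix.of A).det := by
    refine IsUnit.of_mul_eq_one B.det ?_
    rw [← Matrix.det_mul, hAB, Matrix.det_one]
  have hg : Surjective g := MorphismProperty.of_isPullback sq.flip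
    ⟨fun z => ⟨IsLocalRing.closedPoint K, Subsingleton.elim (α := PrimeSpectrum κ) _ _⟩⟩
  refine ⟨m, σ, basis'_of_surjective g hE σ ?_⟩
  intro V hV
  refine SpecFerrand.bijective_of_det_isUnit
    (((PicAux.resX _ hV).comp (glob q)).mapMatrix (Matrix.of A))
    (fun k => ?_) (by rw [← RingHom.map_det]; exact hdet.map _) (hτ V hV)
  show res _ hV (pσ k) = _
  rw [hσ, PicAux.res_sum]
  simp [PicAux.res_smul]

end Groth.PicFreeLocus
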