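import Mathlib
import Groth.Agent.PicFreeLocus.Basis

/-!
The condition of having bases over the base after base change.
-/

set_option autoImplicit false

universe u

open CategoryTheory CategoryTheory.Limits AlgebraicGeometry TopologicalSpace

namespace Groth.PicFreeLocus

variable {X S : Scheme.{u}} (f : X ⟶ S) (E : X.Modules)

/-- After base change along `u` the module has bases over the base. -/
def TrivCond (T : Scheme.{u}) (u : T ⟶ S) : Prop :=
  HasPushBasis (pullback.snd f u) ((Scheme.Modules.pullback (pullback.fst f u)).obj E)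

variable {f E}

theorem trivCond_iff {X' T : Scheme.{u}} {g : X' ⟶ X} {q : X' ⟶ T} {u : T ⟶ S}
    (sq : IsPullback g q f u) :
    TrivCond f E T u ↔ HasPushBasis q ((Scheme.Modules.pullback g).obj E) := by
  constructor
  · intro h
    refine HasPushBasis.of_iso ((Scheme.Modules.pullbackComp sq.isoPullback.hom _).app E ≪≫
      (Scheme.Modules.pullbackCongr sq.isoPullback_hom_fst).app E) ?_
    exact h.pull (g := sq.isoPullback.hom) (f := 𝟙 T) (by simp)
  · intro h
    refine HasPushBasis.of_iso ((Scheme.Modules.pullbackComp sq.isoPullback.inv _).app E ≪≫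
      (Scheme.Modules.pullbackCongr sq.isoPullback_inv_fst).app E) ?_
    exact h.pull (g := sq.isoPullback.inv) (f := 𝟙 T) (by simp)

theorem TrivCond.comp {T T' : Scheme.{u}} (h : T' ⟶ T) {g : T ⟶ S} (hg : TrivCond f E T g) :
    TrivCond f E T' (h ≫ g) := by
  let m : pullback f (h ≫ g) ⟶ pullback f g := pullback.lift (pullback.fst _ _) (pullback.snd _ _ ≫ h)
    (by simpa using pullback.condition)
  refine HasPushBasis.of_iso ((Scheme.Modules.pullbackComp m _).app E ≪≫
    (Scheme.Modules.pullbackCongr (pullback.lift_fst _ _ _)).app E) ?_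
  exact HasPushBasis.pull hg (g := m) (f := h) (pullback.lift_snd _ _ _)

theorem TrivCond.of_cover {T : Scheme.{u}} {g : T ⟶ S} (𝒰 : Scheme.OpenCover.{u} T)
    (h : ∀ i, TrivCond f E (𝒰.X i) (𝒰.f i ≫ g)) : TrivCond f E T g := by
  refine HasPushBasis.of_cover 𝒰 fun i => ?_
  let m : pullback f (𝒰.f i ≫ g) ⟶ pullback f g := pullback.lift (pullback.fst _ _)
    (pullback.snd _ _ ≫ 𝒰.f i) (by simpa using pullback.condition)
  refine ⟨_, m, pullback.snd f (𝒰.f i ≫ g), ?_, ?_⟩
  · refine IsPullback.of_right ?_ (pullback.lift_snd _ _ _) (IsPullback.of_hasPullback f g)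
    rw [pullback.lift_fst]
    exact IsPullback.of_hasPullback f (𝒰.f i ≫ g)
  · exact HasPushBasis.of_iso (((Scheme.Modules.pullbackComp m _).app E ≪≫
      (Scheme.Modules.pullbackCongr (pullback.lift_fst _ _ _)).app E).symm) (h i)

theorem trivCond_congr {E' : X.Modules} (e : E ≅ E') {T : Scheme.{u}} {u : T ⟶ S}
    (h : TrivCond f E T u) : TrivCond f E' T u :=
  HasPushBasis.of_iso ((Scheme.Modules.pullback (pullback.fst f u)).mapIso e) h

theorem trivCond_congr_iff {E' : X.Modules} (e : E ≅ E') {T : Scheme.{u}} {u : T ⟶ S} :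
    TrivCond f E T u ↔ TrivCond f E' T u :=
  ⟨trivCond_congr e, trivCond_congr e.symm⟩

/-- Base change of the condition. -/
theorem trivCond_bc {X₀ S₀ : Scheme.{u}} {q₀ : X₀ ⟶ S₀} {g : X ⟶ X₀} {v : S ⟶ S₀} {E₀ : X₀.Modules}
    (sq : IsPullback g f q₀ v) {T : Scheme.{u}} (u : T ⟶ S) :
    TrivCond f ((Scheme.Modules.pullback g).obj E₀) T u ↔ TrivCond q₀ E₀ T (u ≫ v) := by
  rw [trivCond_iff ((IsPullback.of_hasPullback f u).paste_horiz sq)]
  let e := (Scheme.Modules.pullbackComp (pullback.fst f u) g).app E₀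
  exact ⟨HasPushBasis.of_iso e, HasPushBasis.of_iso e.symm⟩

end Groth.PicFreeLocus
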