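import Mathlib
import Groth.Agent.PicFreeLocus.Near
import Groth.Agent.PicFreeLocus.Cond
import Groth.Agent.FlatStrata.Glue

/-!
The triviality locus over a Noetherian affine base, near the good points.
-/

set_option autoImplicit false

universe u

open CategoryTheory CategoryTheory.Limits AlgebraicGeometry TopologicalSpace Opposite
open Groth.Abvar.Seesaw
open Groth.ThetaRep (glob)

noncomputable section

namespace Groth.PicFreeLocus

variable {R : Type u} [CommRing R] [IsNoetherianRing R] {P : Scheme.{u}}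
  (π : P ⟶ Spec (CommRingCat.of R)) [IsProper π] [Flat π] [LocallyOfFinitePresentation π]

/-- The universal closed subscheme near a good point. -/
theorem exists_closed_piece {E : P.Modules} (h : R) (I : Ideal R)
    (hI : ∀ (C : Type u) [CommRing C] [Algebra R C] (X : Scheme.{u}) (g : X ⟶ P) (q : X ⟶ Spec (CommRingCat.of C)),
      IsPullback g q π (Spec.map (CommRingCat.ofHom (algebraMap R C))) → IsUnit (algebraMap R C h) →
        (HasPushBasis q ((Scheme.Modules.pullback g).obj E) ↔ I ≤ RingHom.ker (algebraMap R C)))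
    (V : (Spec (CommRingCat.of R)).Opens) (hV : ∀ p ∈ V, h ∉ p.asIdeal) :
    ∃ (W : Scheme.{u}) (e : W ⟶ V), IsClosedImmersion e ∧
      ∀ (T : Scheme.{u}) (g : T ⟶ V), (∃ k : T ⟶ W, k ≫ e = g) ↔ TrivCond π E T (g ≫ V.ι) := by
  let j := Spec.map (CommRingCat.ofHom (Ideal.Quotient.mk I))
  have hj : IsClosedImmersion j := IsClosedImmersion.spec_of_surjective _ Ideal.Quotient.mk_surjective
  refine ⟨pullback j V.ι, pullback.snd _ _, MorphismProperty.pullback_snd (P := @IsClosedImmersion) _ _ hj, fun T g => ?_⟩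
  have hlift : (∃ k : T ⟶ pullback j V.ι, k ≫ pullback.snd _ _ = g) ↔ ∃ k, k ≫ j = g ≫ V.ι :=
    ⟨fun ⟨k, hk⟩ => ⟨k ≫ pullback.fst _ _, by rw [Category.assoc, pullback.condition, ← Category.assoc, hk]⟩,
      fun ⟨k, hk⟩ => ⟨pullback.lift k g hk, pullback.lift_snd _ _ _⟩⟩
  rw [hlift]
  have haff : ∀ (C : CommRingCat.{u}) (w : Spec C ⟶ Spec (CommRingCat.of R)), (∀ z, w z ∈ V) →
      ((∃ k, k ≫ j = w) ↔ TrivCond π E (Spec C) w) := fun C w hw => by
    obtain ⟨φ, rfl⟩ : ∃ φ, Spec.map φ = w := ⟨_, Spec.map_preimage w⟩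
    letI : Algebra R C := φ.hom.toAlgebra
    have hu : IsUnit (algebraMap R C h) := by
      by_contra hn
      obtain ⟨m, hm, hle⟩ := Ideal.exists_le_maximal _ (mt Ideal.span_singleton_eq_top.1 hn)
      exact hV _ (hw ⟨m, hm.isPrime⟩) (show algebraMap R C h ∈ m from (Ideal.span_singleton_le_iff_mem _).1 hle)
    unfold TrivCond
    rw [hI C _ _ _ (IsPullback.of_hasPullback π (Spec.map φ)) hu]
    constructor
    · rintro ⟨k, hk⟩ a ha
      obtain ⟨ψ, rfl⟩ : ∃ ψ, Spec.map ψ = k := ⟨_, Spec.map_preimage k⟩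
      rw [← Spec.map_comp] at hk
      have := Spec.map_injective hk
      show φ.hom a = 0
      rw [← this]
      show ψ.hom (Ideal.Quotient.mk I a) = 0
      rw [Ideal.Quotient.eq_zero_iff_mem.2 ha, map_zero]
    · intro hle
      refine ⟨Spec.map (CommRingCat.ofHom (Ideal.Quotient.lift I φ.hom fun a ha => hle ha)), ?_⟩
      rw [← Spec.map_comp]
      exact congrArg Spec.map (CommRingCat.hom_ext (Ideal.Quotient.lift_comp_mk I φ.hom _))
  have hmem : ∀ z, (g ≫ V.ι) z ∈ V := fun z => (g z).2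
  constructor
  · rintro ⟨k, hk⟩
    refine TrivCond.of_cover T.affineCover fun i => ?_
    refine (haff _ _ fun z => hmem _).1 ⟨T.affineCover.f i ≫ k, ?_⟩
    exact (Category.assoc _ _ _).trans (congrArg (T.affineCover.f i ≫ ·) hk)
  · intro hg
    have hk0 : ∀ i, ∃ k : T.affineCover.X i ⟶ Spec (CommRingCat.of (R ⧸ I)),
        k ≫ j = T.affineCover.f i ≫ g ≫ V.ι := fun i =>
      (haff _ (T.affineCover.f i ≫ g ≫ V.ι) fun z => hmem _).2 (hg.comp _)
    choose k hk using hk0
    refine ⟨T.affineCover.glueMorphisms k fun a b => ?_, T.affineCover.hom_ext _ _ fun i => ?_⟩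
    · rw [← cancel_mono j, Category.assoc, Category.assoc, hk, hk, pullback.condition_assoc]
    · rw [T.affineCover.ι_glueMorphisms_assoc, hk]

/-- The triviality condition over the good part of a Noetherian affine base is cut out by an immersion. -/
theorem exists_noeth_locus {E : P.Modules} (hE : FlatMod.IsFinLocFree E) :
    ∃ (U : (Spec (CommRingCat.of R)).Opens) (W : Scheme.{u}) (ι : W ⟶ Spec (CommRingCat.of R)),
      IsImmersion ι ∧ QuasiCompact ι ∧ LocallyOfFinitePresentation ι ∧
      (∀ (x : PrimeSpectrum R) (n : ℕ), FibFree π E x n → H0Const π x → x ∈ U) ∧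
      ∀ (T : Scheme.{u}) (w : T ⟶ Spec (CommRingCat.of R)),
        (∃ k : T ⟶ W, k ≫ ι = w) ↔ (∀ t, w t ∈ U) ∧ TrivCond π E T w := by
  let G := {x : PrimeSpectrum R // ∃ n, FibFree π E x n ∧ H0Const π x}
  choose h I hx hI using fun x : G => exists_ideal_near π hE x.1 x.2.choose_spec.1 x.2.choose_spec.2
  let D : G → (Spec (CommRingCat.of R)).Opens := fun x => PrimeSpectrum.basicOpen (h x)
  let U : (Spec (CommRingCat.of R)).Opens := ⨆ x, D x
  have hnoeth : IsLocallyNoetherian (Spec (CommRingCat.of R)) := inferInstance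
  have : IsLocallyNoetherian U := LocallyOfFiniteType.isLocallyNoetherian U.ι
  obtain ⟨W, i, hi, hqc, hfp, huniv⟩ := Groth.FlatStrata.exists_immersion_of_local
    (fun T g => TrivCond π E T (g ≫ U.ι))
    (fun T T' h g hg => by simpa only [Category.assoc] using hg.comp h)
    (fun T g 𝒰 hg => TrivCond.of_cover 𝒰 fun i => by simpa only [Category.assoc] using hg i)
    (fun y => by
      obtain ⟨x, hy⟩ := Opens.mem_iSup.1 (show (U.ι y) ∈ U from y.2)
      let V : (U : Scheme.{u}).Opens := U.ι ⁻¹ᵁ D x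
      let V' : (Spec (CommRingCat.of R)).Opens := D x
      obtain ⟨Wl, e, he, hu⟩ := exists_closed_piece π (E := E) (h x) (I x)
        (fun C _ _ X g q sq hu => (hI x C X g q sq hu).2) (D x) (fun p hp => hp)
      have : IsLocallyNoetherian V := LocallyOfFiniteType.isLocallyNoetherian V.ι
      let r : (V : Scheme.{u}) ⟶ (D x : Scheme.{u}) := U.ι ∣_ D x
      refine ⟨V, hy, pullback e r, pullback.snd e r, ?_, ?_, ?_, fun T g => ?_⟩
      · have : IsClosedImmersion (pullback.snd e r) :=
          MorphismProperty.pullback_snd (P := @IsClosedImmersion) _ _ he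
        infer_instance
      · have : IsClosedImmersion (pullback.snd e r) :=
          MorphismProperty.pullback_snd (P := @IsClosedImmersion) _ _ he
        infer_instance
      · have : IsClosedImmersion (pullback.snd e r) :=
          MorphismProperty.pullback_snd (P := @IsClosedImmersion) _ _ he
        exact LocallyOfFinitePresentation.iff_locallyOfFiniteType.2 inferInstance
      · have heq : (g ≫ r) ≫ (D x).ι = (g ≫ V.ι) ≫ U.ι := by
          rw [Category.assoc, Category.assoc, morphismRestrict_ι]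
        show _ ↔ TrivCond π E T ((g ≫ V.ι) ≫ U.ι)
        rw [← heq, ← hu]
        exact ⟨fun ⟨k, hk⟩ => ⟨k ≫ pullback.fst _ _, by rw [Category.assoc, pullback.condition, ← Category.assoc, hk]⟩,
          fun ⟨k, hk⟩ => ⟨pullback.lift k g hk, pullback.lift_snd _ _ _⟩⟩)
  refine ⟨U, W, i ≫ U.ι, inferInstance, inferInstance, inferInstance, fun x n hf h0 =>
    Opens.mem_iSup.2 ⟨⟨x, n, hf, h0⟩, hx ⟨x, n, hf, h0⟩⟩, fun T w => ⟨?_, ?_⟩⟩
  · rintro ⟨k, rfl⟩
    refine ⟨fun t => (i (k t)).2, ?_⟩
    rw [← Category.assoc]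
    exact (huniv T (k ≫ i)).1 ⟨k, rfl⟩
  · rintro ⟨hw, hc⟩
    let w' : T ⟶ U := IsOpenImmersion.lift U.ι w (by
      rintro _ ⟨t, rfl⟩
      exact (Scheme.Opens.range_ι _).ge (hw t))
    have hw' : w' ≫ U.ι = w := IsOpenImmersion.lift_fac _ _ _
    obtain ⟨k, hk⟩ := (huniv T w').2 (by show TrivCond π E T (w' ≫ U.ι); rw [hw']; exact hc)
    exact ⟨k, by rw [← Category.assoc, hk, hw']⟩

end Groth.PicFreeLocus
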