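import Mathlib
import Groth.Agent.Abvar.Cube.Near
import Groth.Agent.CohC3.BC.StageModule
import Groth.Agent.LimitMod.LocFree
import Groth.Agent.FlatStrata.FlatModel

/-!
A finite locally free module on a proper flat family comes from a Noetherian base.
-/

set_option autoImplicit false

universe u

set_option backward.isDefEq.respectTransparency false
set_option backward.defeqAttrib.useBackward true
set_option backward.isDefEq.respectTransparency.types false

open CategoryTheory CategoryTheory.Limits AlgebraicGeometry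
open Groth.SpectralTopology (fgSchemes fgCone isLimitFgCone)

namespace Groth.PicFreeLocus

variable {A : CommRingCat.{u}}

theorem exists_noeth_model {X : Scheme.{u}} (f : X ⟶ Spec A) [IsProper f] [Flat f]
    [LocallyOfFinitePresentation f] {E : X.Modules} (hE : FlatMod.IsFinLocFree E) :
    ∃ (A₀ : CommRingCat.{u}) (_ : IsNoetherianRing A₀) (X₀ : Scheme.{u}) (q₀ : X₀ ⟶ Spec A₀)
      (g : X ⟶ X₀) (v : Spec A ⟶ Spec A₀) (E₀ : X₀.Modules), IsProper q₀ ∧ Flat q₀ ∧
      IsPullback g f q₀ v ∧ FlatMod.IsFinLocFree E₀ ∧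
      Nonempty ((Scheme.Modules.pullback g).obj E₀ ≅ E) := by
  classical
  obtain ⟨i, P₀, p₀, h, sq, _, _⟩ := @Groth.Abvar.Cube.exists_stage_family A X f ‹_› ‹_› ‹_›
  have hc := (Functor.Initial.isLimitWhiskerEquiv (Over.forget i) (fgCone A)).symm (isLimitFgCone A)
  have hτ : ∀ k : Over i, (Cone.whisker (Over.forget i) (fgCone A)).π.app k ≫
      (Groth.Limits.overTrans (fgSchemes A) i).app k = (fgCone A).π.app i := fun k =>
    (fgCone A).w k.hom
  let t := Groth.Limits.overTrans (fgSchemes A) i
  have hl := Groth.Limits.isLimitBcCone t p₀ _ ((fgCone A).π.app i) hτ hc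
  have hP : ∀ k : Over i, IsProper (pullback.snd p₀ (t.app k)) := fun k =>
    MorphismProperty.pullback_snd (P := @IsProper) p₀ (t.app k) ‹IsProper p₀›
  have : ∀ k : Over i, CompactSpace ((Groth.Limits.bcDiagram t p₀).obj k) := fun k => by
    let g : pullback p₀ (t.app k) ⟶ (fgSchemes A).obj k.left := pullback.snd _ _
    have hg : IsProper g := hP k
    exact @QuasiCompact.compactSpace_of_compactSpace _ _ g inferInstance inferInstance
  have : ∀ k : Over i, QuasiSeparatedSpace ((Groth.Limits.bcDiagram t p₀).obj k) := fun k => by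
    let g : pullback p₀ (t.app k) ⟶ (fgSchemes A).obj k.left := pullback.snd _ _
    have hg : IsProper g := hP k
    exact @quasiSeparatedSpace_of_quasiSeparated _ _ g inferInstance inferInstance
  have : ∀ k : Over i, IsLocallyNoetherian ((Groth.Limits.bcDiagram t p₀).obj k) := fun k => by
    let g : pullback p₀ (t.app k) ⟶ (fgSchemes A).obj k.left := pullback.snd _ _
    have hg : IsProper g := hP k
    exact LocallyOfFiniteType.isLocallyNoetherian g
  have : ∀ (a b : Over i) (f : a ⟶ b), IsAffineHom ((Over.forget i ⋙ fgSchemes A).map f) :=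
    fun a b f => inferInstanceAs (IsAffineHom ((fgSchemes A).map f.left))
  have : ∀ (a b : Over i) (f : a ⟶ b), IsAffineHom ((Groth.Limits.bcDiagram t p₀).map f) := inferInstance
  let e := sq.isoPullback
  let E' := (Scheme.Modules.pullback e.inv).obj E
  have hE' : FlatMod.IsFinLocFree E' := Groth.LocFree.isFinLocFree_pullback e.inv hE
  have : E'.IsQuasicoherent := Groth.PropsBasic.LocFree.isQuasicoherent_of_isFinLocFree _ hE'
  obtain ⟨k, -, G₀, hG₀, ⟨j⟩⟩ := Groth.CohC3.BC.exists_stage_module hl (Over.mk (𝟙 i)) E'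
    (Groth.PropsBasic.LocFree.isFP_of_isFinLocFree _ hE')
  have : G₀.IsQuasicoherent := hG₀.1
  have hfp : CohB1.IsFP G₀ := Groth.FlatStrata.isFP_of_isCoh hG₀
  have hloc : Groth.LimitMod.LocTriv G₀
      ((Groth.Limits.bcCone t p₀ (Cone.whisker (Over.forget i) (fgCone A)) ((fgCone A).π.app i) hτ).π.app k)
      Set.univ :=
    (Groth.LimitMod.isFinLocFree_pullback_iff _ _).1 (Groth.KTheory.LocFree.isFinLocFree_of_iso j.symm hE')
  obtain ⟨l, φ, hl'⟩ := Groth.LimitMod.exists_locTriv_stage hl hfp hloc
  let π := (Groth.Limits.bcCone t p₀ (Cone.whisker (Over.forget i) (fgCone A)) ((fgCone A).π.app i) hτ).π.app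
  refine ⟨_, ?_, pullback p₀ (t.app l), pullback.snd p₀ (t.app l), e.hom ≫ π l, (fgCone A).π.app l.left,
    (Scheme.Modules.pullback ((Groth.Limits.bcDiagram t p₀).map φ)).obj G₀, hP l,
    MorphismProperty.pullback_snd (P := @Flat) p₀ (t.app l) ‹Flat p₀›, ?_,
    (Groth.LimitMod.isFinLocFree_pullback_iff _ _).2 hl', ⟨?_⟩⟩
  · have : Algebra.FiniteType ℤ l.left.unop.1 := l.left.unop.1.fg_iff_finiteType.1 l.left.unop.2
    have hN : IsNoetherianRing l.left.unop.1 := Algebra.FiniteType.isNoetherianRing ℤ _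
    exact hN
  · refine IsPullback.of_right ?_ ?_ (IsPullback.of_hasPullback p₀ (t.app l))
    · have h1 : (e.hom ≫ π l) ≫ pullback.fst p₀ (t.app l) = h :=
        (Category.assoc _ _ _).trans ((congrArg (e.hom ≫ ·) (pullback.lift_fst _ _ _)).trans
          sq.isoPullback_hom_fst)
      rw [h1]
      have h2 : (fgCone A).π.app l.left ≫ t.app l = (fgCone A).π.app i := (fgCone A).w l.hom
      rw [h2]
      exact sq
    · exact (Category.assoc _ _ _).trans
        ((congrArg (e.hom ≫ ·) (pullback.lift_snd _ _ _)).trans ((Category.assoc _ _ _).symm.trans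
          (congrArg (· ≫ (fgCone A).π.app l.left) sq.isoPullback_hom_snd)))
  · exact ((Scheme.Modules.pullbackComp (e.hom ≫ π l) ((Groth.Limits.bcDiagram t p₀).map φ)).app G₀) ≪≫
      (Scheme.Modules.pullbackCongr ((Category.assoc _ _ _).trans (congrArg (e.hom ≫ ·)
        ((Groth.Limits.bcCone t p₀ (Cone.whisker (Over.forget i) (fgCone A)) ((fgCone A).π.app i) hτ).w φ)))).app G₀ ≪≫
      ((Scheme.Modules.pullbackComp e.hom (π k)).app G₀).symm ≪≫
      (Scheme.Modules.pullback e.hom).mapIso j ≪≫
      (Scheme.Modules.pullbackComp e.hom e.inv).app E ≪≫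
      (Scheme.Modules.pullbackCongr e.hom_inv_id).app E ≪≫
      (Scheme.Modules.pullbackId X).app E

end Groth.PicFreeLocus
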