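import Mathlib
import Groth.Agent.PicFreeLocus.Stage
import Groth.Agent.PicFreeLocus.Field
import Groth.Agent.PicFreeLocus.Noeth
import Groth.Agent.Abvar.Seesaw.FieldDescent
import Groth.Agent.GrpschAbsch.H0General

/-!
The triviality locus of a vector bundle on a family with constant functions.
-/

set_option autoImplicit false

universe u

open CategoryTheory CategoryTheory.Limits AlgebraicGeometry TopologicalSpace Opposite
open Groth.PicAux (Basis' res)
open Groth.Abvar.Seesaw
open Groth.ThetaRep (glob)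

noncomputable section

namespace Groth.PicFreeLocus

variable {P B : Scheme.{u}}

/-- Freeness and constant functions descend to the fibre from a field-valued point. -/
theorem fibre_of_point (π : P ⟶ B) [IsProper π] [Flat π] {E : P.Modules} (hE : FlatMod.IsFinLocFree E)
    {K : Type u} [Field K] (w : Spec (CommRingCat.of K) ⟶ B) {Q : Scheme.{u}} {g : Q ⟶ P}
    {q : Q ⟶ Spec (CommRingCat.of K)} (H : IsPullback g q π w) (hq : Function.Bijective (glob q))
    (hb : HasPushBasis q ((Scheme.Modules.pullback g).obj E)) :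
    H0Const π (w (IsLocalRing.closedPoint K)) ∧
      ∃ (m : ℕ) (σ : Fin m → Γ((Scheme.Modules.pullback (π.fiberι (w (IsLocalRing.closedPoint K)))).obj E, ⊤)),
        Basis' _ ⊤ σ := by
  let y := w (IsLocalRing.closedPoint K)
  let d := B.descResidueField (Scheme.stalkClosedPointTo w)
  have hd : Spec.map d ≫ B.fromSpecResidueField y = w :=
    Scheme.descResidueField_stalkClosedPointTo_fromSpecResidueField _ _ w
  have sq : IsPullback (π.fiberι y) (π.fiberToSpecResidueField y) π (B.fromSpecResidueField y) :=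
    IsPullback.of_hasPullback π (B.fromSpecResidueField y)
  let l := sq.lift g (q ≫ Spec.map d) (by rw [Category.assoc, hd]; exact H.w)
  have Hl : IsPullback l q (π.fiberToSpecResidueField y) (Spec.map (CommRingCat.ofHom d.hom)) :=
    IsPullback.of_right (by rw [sq.lift_fst]; exact (show IsPullback g q π
      (Spec.map d ≫ B.fromSpecResidueField _) from hd.symm ▸ H)) (sq.lift_snd _ _ _) sq
  have : IsProper (π.fiberToSpecResidueField y) := MorphismProperty.of_isPullback sq ‹_›
  have : Flat (π.fiberToSpecResidueField y) := MorphismProperty.of_isPullback sq ‹_›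
  let π' : π.fiber y ⟶ Spec (CommRingCat.of (B.residueField y)) := π.fiberToSpecResidueField y
  have : IsProper π' := ‹IsProper (π.fiberToSpecResidueField y)›
  have : Flat π' := ‹Flat (π.fiberToSpecResidueField y)›
  refine ⟨toGlobal_bijective_of_map (q := π') d.hom Hl hq, ?_⟩
  let eI := (Scheme.Modules.pullbackComp l (π.fiberι y)).app E ≪≫
    (Scheme.Modules.pullbackCongr (sq.lift_fst _ _ _)).app E
  obtain ⟨W, n, s, hW, hs⟩ := hb (IsLocalRing.closedPoint K)
  have htop : (⊤ : Q.Opens) ≤ q ⁻¹ᵁ W := fun z _ => by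
    show q z ∈ W
    rw [Subsingleton.elim (α := PrimeSpectrum K) (q z) (IsLocalRing.closedPoint K)]
    exact hW
  letI : Algebra (B.residueField y) K := d.hom.toAlgebra
  exact exists_basis_of_field_ext π' (Groth.LocFree.isFinLocFree_pullback (π.fiberι y) hE) Hl hq
    ((hs.res' htop).map eI.inv)

variable {X S : Scheme.{u}} (f : X ⟶ S) [IsProper f] [Flat f] [LocallyOfFinitePresentation f]
  [GeometricallyConnected f] [GeometricallyReduced f]

theorem app_bijective_snd {T : Scheme.{u}} (u : T ⟶ S) (V : T.Opens) :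
    Function.Bijective ((pullback.snd f u).app V) := by
  have : IsProper (pullback.snd f u) := MorphismProperty.pullback_snd (P := @IsProper) _ _ ‹_›
  have : Flat (pullback.snd f u) := MorphismProperty.pullback_snd (P := @Flat) _ _ ‹_›
  have : GeometricallyConnected (pullback.snd f u) :=
    MorphismProperty.pullback_snd (P := @GeometricallyConnected) _ _ ‹_›
  have : GeometricallyReduced (pullback.snd f u) :=
    MorphismProperty.pullback_snd (P := @GeometricallyReduced) _ _ ‹_›
  exact GrpschAbsch.H0General.app_bijective (pullback.snd f u) V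

theorem glob_bijective_snd {K : Type u} [Field K] (w : Spec (CommRingCat.of K) ⟶ S) :
    Function.Bijective (glob (pullback.snd f w)) :=
  (app_bijective_snd f w ⊤).comp
    (ConcreteCategory.bijective_of_isIso (Scheme.ΓSpecIso (CommRingCat.of K)).inv)

/-- A field-valued point satisfying the condition lies over a point with free fibre. -/
theorem fibre_of_trivCond {E : X.Modules} (hE : FlatMod.IsFinLocFree E) {K : Type u} [Field K]
    (w : Spec (CommRingCat.of K) ⟶ S) (h : TrivCond f E _ w) :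
    ∃ (m : ℕ) (σ : Fin m → Γ((Scheme.Modules.pullback (f.fiberι (w (IsLocalRing.closedPoint K)))).obj E, ⊤)),
      Basis' _ ⊤ σ :=
  (fibre_of_point f hE w (IsPullback.of_hasPullback f w) (glob_bijective_snd f w) h).2

omit [GeometricallyConnected f] [GeometricallyReduced f] in
/-- The locus over an affine base. -/
theorem exists_affine_locus {A : CommRingCat.{u}} {X : Scheme.{u}} (f : X ⟶ Spec A) [IsProper f] [Flat f]
    [LocallyOfFinitePresentation f] [GeometricallyConnected f] [GeometricallyReduced f]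
    {E : X.Modules} (hE : FlatMod.IsFinLocFree E) :
    ∃ (W : Scheme.{u}) (e : W ⟶ Spec A), IsImmersion e ∧ QuasiCompact e ∧ LocallyOfFinitePresentation e ∧
      ∀ (T : Scheme.{u}) (t : T ⟶ Spec A), (∃ k : T ⟶ W, k ≫ e = t) ↔ TrivCond f E T t := by
  obtain ⟨A₀, _, X₀, q₀, g, v, E₀, _, _, sq, hE₀, ⟨i⟩⟩ := exists_noeth_model f hE
  let q₀' : X₀ ⟶ Spec (CommRingCat.of A₀) := q₀
  have : IsProper q₀' := ‹IsProper q₀›
  have : Flat q₀' := ‹Flat q₀›
  have : LocallyOfFinitePresentation q₀' := LocallyOfFinitePresentation.iff_locallyOfFiniteType.2 inferInstance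
  obtain ⟨U, W₀, ι₀, _, _, _, hU, huniv⟩ := exists_noeth_locus q₀' hE₀
  refine ⟨pullback ι₀ v, pullback.snd ι₀ v, MorphismProperty.pullback_snd (P := @IsImmersion) _ _ ‹_›,
    MorphismProperty.pullback_snd (P := @QuasiCompact) _ _ ‹_›,
    MorphismProperty.pullback_snd (P := @LocallyOfFinitePresentation) _ _ ‹_›, fun T t => ?_⟩
  have hl : (∃ k : T ⟶ pullback ι₀ v, k ≫ pullback.snd ι₀ v = t) ↔ ∃ k, k ≫ ι₀ = t ≫ v :=
    ⟨fun ⟨k, hk⟩ => ⟨k ≫ pullback.fst _ _, by rw [Category.assoc, pullback.condition, ← Category.assoc, hk]⟩,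
      fun ⟨k, hk⟩ => ⟨pullback.lift k t hk, pullback.lift_snd _ _ _⟩⟩
  rw [hl, huniv, trivCond_congr_iff i.symm,
    trivCond_bc sq]
  refine ⟨fun h => h.2, fun h => ⟨fun z => ?_, h⟩⟩
  let w₁ : Spec (CommRingCat.of (T.residueField z)) ⟶ Spec A := T.fromSpecResidueField z ≫ t
  let w : Spec (CommRingCat.of (T.residueField z)) ⟶ Spec (CommRingCat.of A₀) := w₁ ≫ v
  have hw : TrivCond q₀' E₀ _ w := by
    have := h.comp (T.fromSpecResidueField z)
    exact (congrArg (TrivCond q₀' E₀ _) (Category.assoc (T.fromSpecResidueField z) t v).symm).mp this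
  have sqw := (IsPullback.of_hasPullback f w₁).paste_horiz sq
  obtain ⟨h0, m, σ, hσ⟩ := fibre_of_point q₀' hE₀ w sqw (glob_bijective_snd f w₁) ((trivCond_iff sqw).1 hw)
  have hz : w (IsLocalRing.closedPoint (T.residueField z)) = (t ≫ v) z := by
    show v (t (T.fromSpecResidueField z _)) = _
    rw [T.fromSpecResidueField_apply]
    rfl
  have := hU _ m ⟨σ, hσ⟩ h0
  rw [hz] at this
  exact this

theorem exists_locus {E : X.Modules} (hE : FlatMod.IsFinLocFree E) :
    ∃ (Z : Scheme.{u}) (ι : Z ⟶ S), IsImmersion ι ∧ QuasiCompact ι ∧ LocallyOfFinitePresentation ι ∧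
      ∀ (T : Scheme.{u}) (u : T ⟶ S), (∃ k : T ⟶ Z, k ≫ ι = u) ↔ TrivCond f E T u := by
  refine Groth.FlatStrata.exists_immersion_of_local (fun T u => TrivCond f E T u)
    (fun _ _ h _ hg => hg.comp h) (fun _ _ 𝒰 hg => TrivCond.of_cover 𝒰 hg) fun s => ?_
  obtain ⟨_, ⟨V, hV, rfl⟩, hsV, -⟩ :=
    S.isBasis_affineOpens.exists_subset_of_mem_open (Set.mem_univ s) isOpen_univ
  let b := hV.fromSpec
  have sq := IsPullback.of_hasPullback f b
  have : IsProper (pullback.snd f b) := MorphismProperty.pullback_snd (P := @IsProper) _ _ ‹_›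
  have : Flat (pullback.snd f b) := MorphismProperty.pullback_snd (P := @Flat) _ _ ‹_›
  have : GeometricallyConnected (pullback.snd f b) :=
    MorphismProperty.pullback_snd (P := @GeometricallyConnected) _ _ ‹_›
  have : GeometricallyReduced (pullback.snd f b) :=
    MorphismProperty.pullback_snd (P := @GeometricallyReduced) _ _ ‹_›
  obtain ⟨W, e, _, _, _, hu⟩ := exists_affine_locus (pullback.snd f b)
    (Groth.LocFree.isFinLocFree_pullback (pullback.fst f b) hE)
  refine ⟨V, hsV, W, e ≫ hV.isoSpec.inv, inferInstance, inferInstance, inferInstance, fun T g => ?_⟩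
  have hb : (g ≫ hV.isoSpec.hom) ≫ b = g ≫ Scheme.Opens.ι V := by
    rw [Category.assoc]
    exact congrArg (g ≫ ·) hV.isoSpec_hom_fromSpec
  rw [← hb, ← trivCond_bc sq, ← hu]
  exact ⟨fun ⟨k, hk⟩ => ⟨k, by rw [← hk]; simp⟩, fun ⟨k, hk⟩ => ⟨k, by rw [← Category.assoc, hk]; simp⟩⟩

theorem main {E : X.Modules} (hE : FlatMod.IsFinLocFree E) :
    ∃ (Z : Scheme.{u}) (ι : Z ⟶ S), IsImmersion ι ∧ LocallyOfFinitePresentation ι ∧ QuasiCompact ι ∧
      (∀ (T : Scheme.{u}) (u : T ⟶ S), (∃ u' : T ⟶ Z, u' ≫ ι = u) ↔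
        ∃ M : T.Modules, FlatMod.IsFinLocFree M ∧
          Nonempty ((Scheme.Modules.pullback (pullback.fst f u)).obj E ≅ (Scheme.Modules.pullback (pullback.snd f u)).obj M)) ∧
      Set.range ι = {s : S | ∃ n : ℕ, Nonempty ((Scheme.Modules.pullback (f.fiberι s)).obj E ≅ FlatMod.freeMod (f.fiber s) n)} := by
  obtain ⟨Z, ι, h1, h2, h3, hu⟩ := exists_locus f hE
  refine ⟨Z, ι, h1, h3, h2, fun T u => (hu T u).trans (hasPushBasis_iff (app_bijective_snd f u) _),
    Set.ext fun s => ⟨?_, ?_⟩⟩
  · rintro ⟨z, rfl⟩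
    let w : Spec (CommRingCat.of (Z.residueField z)) ⟶ S := Z.fromSpecResidueField z ≫ ι
    obtain ⟨m, σ, hσ⟩ := fibre_of_trivCond f hE w ((hu _ w).1 ⟨_, rfl⟩)
    have hs : w (IsLocalRing.closedPoint (Z.residueField z)) = ι z := by
      show ι (Z.fromSpecResidueField z _) = _
      rw [Z.fromSpecResidueField_apply]
    rw [← hs]
    obtain ⟨d, -⟩ := hσ.exists_split
    exact ⟨m, ⟨Groth.KTheory.LocFree.splitIso d⟩⟩
  · rintro ⟨n, ⟨i⟩⟩
    obtain ⟨d⟩ := Groth.PicAux.exists_split_free (X := f.fiber s) n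
    have hP : TrivCond f E _ (S.fromSpecResidueField s) := fun _ =>
      ⟨⊤, n, _, trivial, d.basis.map i.inv⟩
    obtain ⟨k, hk⟩ := (hu _ _).2 hP
    refine ⟨k (IsLocalRing.closedPoint (S.residueField s)), ?_⟩
    rw [← Scheme.Hom.comp_apply, hk]
    exact S.fromSpecResidueField_apply s _

end Groth.PicFreeLocus
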