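import Mathlib
import Groth.Agent.PicFreeLocus.Main

/-!
The descent locus of a vector bundle along a flat proper morphism with universally constant functions.
-/

set_option autoImplicit false

universe u

open CategoryTheory CategoryTheory.Limits AlgebraicGeometry TopologicalSpace Opposite
open Groth.PicAux (Basis' res)
open Groth.Abvar.Seesaw
open Groth.ThetaRep (glob)

noncomputable section

namespace Groth.PicFreeLocus.Const

/-- The functions of every base change are those of the base. -/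
class ConstFun {X S : Scheme.{u}} (f : X ⟶ S) : Prop where
  bij : ∀ (T : Scheme.{u}) (u : T ⟶ S) (V : T.Opens), Function.Bijective ((pullback.snd f u).app V)

variable {X S : Scheme.{u}} (f : X ⟶ S) [IsProper f] [Flat f] [LocallyOfFinitePresentation f]
  [hf : ConstFun f]

theorem bc_const {T : Scheme.{u}} (b : T ⟶ S) : ConstFun (pullback.snd f b) := by
  refine ⟨fun T' u V => ?_⟩
  obtain ⟨hconst⟩ := ‹ConstFun f›
  have sq := (IsPullback.of_hasPullback (pullback.snd f b) u).paste_horiz (IsPullback.of_hasPullback f b)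
  let e := sq.isoPullback
  have he : pullback.snd (pullback.snd f b) u = e.hom ≫ pullback.snd f (u ≫ b) := sq.isoPullback_hom_snd.symm
  rw [he, Scheme.Hom.comp_app]
  exact (ConcreteCategory.bijective_of_isIso (e.hom.app _)).comp (hconst T' (u ≫ b) V)

theorem glob_bijective_snd {K : Type u} [Field K] (w : Spec (CommRingCat.of K) ⟶ S) :
    Function.Bijective (glob (pullback.snd f w)) :=
  (hf.bij _ w ⊤).comp
    (ConcreteCategory.bijective_of_isIso (Scheme.ΓSpecIso (CommRingCat.of K)).inv)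

/-- A field-valued point satisfying the condition lies over a point with free fibre. -/
theorem fibre_of_trivCond {E : X.Modules} (hE : FlatMod.IsFinLocFree E) {K : Type u} [Field K]
    (w : Spec (CommRingCat.of K) ⟶ S) (h : TrivCond f E _ w) :
    ∃ (m : ℕ) (σ : Fin m → Γ((Scheme.Modules.pullback (f.fiberι (w (IsLocalRing.closedPoint K)))).obj E, ⊤)),
      Basis' _ ⊤ σ :=
  (fibre_of_point f hE w (IsPullback.of_hasPullback f w) (glob_bijective_snd f w) h).2

omit hf in
/-- The locus over an affine base. -/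
theorem exists_affine_locus {A : CommRingCat.{u}} {X : Scheme.{u}} (f : X ⟶ Spec A) [IsProper f] [Flat f]
    [LocallyOfFinitePresentation f] [ConstFun f]
    {E : X.Modules} (hE : FlatMod.IsFinLocFree E) :
    ∃ (W : Scheme.{u}) (e : W ⟶ Spec A), IsImmersion e ∧ QuasiCompact e ∧ LocallyOfFinitePresentation e ∧
      ∀ (T : Scheme.{u}) (t : T ⟶ Spec A), (∃ k : T ⟶ W, k ≫ e = t) ↔ TrivCond f E T t := by
  obtain ⟨A₀, _, X₀, q₀, g, v, E₀, _, _, sq, hE₀, ⟨i⟩⟩ := exists_noeth_model f hE
  let q₀' : X₀ ⟶ Spec (CommRingCat.of A₀) := q₀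
  have : IsProper q₀' := ‹IsProper q₀›
  have : Flat q₀' := ‹Flat q₀›
  have : LocallyOfFinitePresentation q₀' := LocallyOfFinitePresentation.iff_locallyOfFiniteType.2 inferInstance
  obtain ⟨U, W₀, ι₀, _, _, _, hU, huniv⟩ := exists_noeth_locus q₀' hE₀
  refine ⟨pullback ι₀ v, pullback.snd ι₀ v, MorphismProperty.pullback_snd (P := @IsImmersion) _ _ ‹_›,
    MorphismProperty.pullback_snd (P := @QuasiCompact) _ _ ‹_›,
    MorphismProperty.pullback_snd (P := @LocallyOfFinitePresentation) _ _ ‹_›, fun T t => ?_⟩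
  have hl : (∃ k : T ⟶ pullback ι₀ v, k ≫ pullback.snd ι₀ v = t) ↔ ∃ k, k ≫ ι₀ = t ≫ v :=
    ⟨fun ⟨k, hk⟩ => ⟨k ≫ pullback.fst _ _, by rw [Category.assoc, pullback.condition, ← Category.assoc, hk]⟩,
      fun ⟨k, hk⟩ => ⟨pullback.lift k t hk, pullback.lift_snd _ _ _⟩⟩
  rw [hl, huniv, trivCond_congr_iff i.symm,
    trivCond_bc sq]
  refine ⟨fun h => h.2, fun h => ⟨fun z => ?_, h⟩⟩
  let w₁ : Spec (CommRingCat.of (T.residueField z)) ⟶ Spec A := T.fromSpecResidueField z ≫ t
  let w : Spec (CommRingCat.of (T.residueField z)) ⟶ Spec (CommRingCat.of A₀) := w₁ ≫ v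
  have hw : TrivCond q₀' E₀ _ w := by
    have := h.comp (T.fromSpecResidueField z)
    exact (congrArg (TrivCond q₀' E₀ _) (Category.assoc (T.fromSpecResidueField z) t v).symm).mp this
  have sqw := (IsPullback.of_hasPullback f w₁).paste_horiz sq
  obtain ⟨h0, m, σ, hσ⟩ := fibre_of_point q₀' hE₀ w sqw (glob_bijective_snd f w₁) ((trivCond_iff sqw).1 hw)
  have hz : w (IsLocalRing.closedPoint (T.residueField z)) = (t ≫ v) z := by
    show v (t (T.fromSpecResidueField z _)) = _
    rw [T.fromSpecResidueField_apply]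
    rfl
  have := hU _ m ⟨σ, hσ⟩ h0
  rw [hz] at this
  exact this

theorem exists_locus {E : X.Modules} (hE : FlatMod.IsFinLocFree E) :
    ∃ (Z : Scheme.{u}) (ι : Z ⟶ S), IsImmersion ι ∧ QuasiCompact ι ∧ LocallyOfFinitePresentation ι ∧
      ∀ (T : Scheme.{u}) (u : T ⟶ S), (∃ k : T ⟶ Z, k ≫ ι = u) ↔ TrivCond f E T u := by
  refine Groth.FlatStrata.exists_immersion_of_local (fun T u => TrivCond f E T u)
    (fun _ _ h _ hg => hg.comp h) (fun _ _ 𝒰 hg => TrivCond.of_cover 𝒰 hg) fun s => ?_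
  obtain ⟨_, ⟨V, hV, rfl⟩, hsV, -⟩ :=
    S.isBasis_affineOpens.exists_subset_of_mem_open (Set.mem_univ s) isOpen_univ
  let b := hV.fromSpec
  have sq := IsPullback.of_hasPullback f b
  have : IsProper (pullback.snd f b) := MorphismProperty.pullback_snd (P := @IsProper) _ _ ‹_›
  have : Flat (pullback.snd f b) := MorphismProperty.pullback_snd (P := @Flat) _ _ ‹_›
  have : ConstFun (pullback.snd f b) := bc_const f b
  obtain ⟨W, e, _, _, _, hu⟩ := exists_affine_locus (pullback.snd f b)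
    (Groth.LocFree.isFinLocFree_pullback (pullback.fst f b) hE)
  refine ⟨V, hsV, W, e ≫ hV.isoSpec.inv, inferInstance, inferInstance, inferInstance, fun T g => ?_⟩
  have hb : (g ≫ hV.isoSpec.hom) ≫ b = g ≫ Scheme.Opens.ι V := by
    rw [Category.assoc]
    exact congrArg (g ≫ ·) hV.isoSpec_hom_fromSpec
  rw [← hb, ← trivCond_bc sq, ← hu]
  exact ⟨fun ⟨k, hk⟩ => ⟨k, by rw [← hk]; simp⟩, fun ⟨k, hk⟩ => ⟨k, by rw [← Category.assoc, hk]; simp⟩⟩

/-- The descent condition is represented by an immersion. -/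
theorem main' {E : X.Modules} (hE : FlatMod.IsFinLocFree E) :
    ∃ (Z : Scheme.{u}) (ι : Z ⟶ S), IsImmersion ι ∧ LocallyOfFinitePresentation ι ∧
      ∀ (T : Scheme.{u}) (u : T ⟶ S), (∃ u' : T ⟶ Z, u' ≫ ι = u) ↔
        ∃ M : T.Modules, FlatMod.IsFinLocFree M ∧
          Nonempty ((Scheme.Modules.pullback (pullback.fst f u)).obj E ≅ (Scheme.Modules.pullback (pullback.snd f u)).obj M) := by
  obtain ⟨Z, ι, h1, -, h3, hu⟩ := exists_locus f hE
  exact ⟨Z, ι, h1, h3, fun T u => (hu T u).trans (hasPushBasis_iff (hf.bij T u) _)⟩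

end Groth.PicFreeLocus.Const
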